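import Mathlib.RingTheory.Localization.Away.Basic
import Mathlib.RingTheory.TensorProduct.Maps
import Mathlib.RingTheory.Localization.Basic

/-! Fibre products of two rings over a common localisation, and localisations of tensor products. -/

set_option autoImplicit false
set_option linter.style.haveILetI false
set_option backward.isDefEq.respectTransparency false
set_option backward.isDefEq.respectTransparency.types false

universe u

open TensorProduct

noncomputable section

namespace Groth.Agent.QAGlueLib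

variable {S : Type u} [CommRing S] {M N K : Type u} [CommRing M] [Algebra S M] [CommRing N] [Algebra S N]
  [CommRing K] [Algebra S K] (l : M →ₐ[S] K) (σ : N →ₐ[S] K)

/-- The fibre product. -/
abbrev fibre : Subalgebra S (M × N) :=
  AlgHom.equalizer (l.comp (AlgHom.fst S M N)) (σ.comp (AlgHom.snd S M N))

theorem mem_fibre {x : M × N} : x ∈ fibre l σ ↔ l x.1 = σ x.2 := Iff.rfl

/-- The first projection. -/
def fibreFst : fibre l σ →ₐ[S] M := (AlgHom.fst S M N).comp (fibre l σ).val

/-- The second projection. -/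
def fibreSnd : fibre l σ →ₐ[S] N := (AlgHom.snd S M N).comp (fibre l σ).val

variable (s : S) (α : fibre l σ)

theorem fibreFst_localization (ha : IsUnit α.1.1) (hσ : letI := σ.toRingHom.toAlgebra; IsLocalization.Away α.1.2 K) :
    letI := (fibreFst l σ).toRingHom.toAlgebra; IsLocalization.Away α M := by
  letI := (fibreFst l σ).toRingHom.toAlgebra
  letI := σ.toRingHom.toAlgebra
  haveI := hσ
  constructor; constructor
  · rintro ⟨_, k, rfl⟩
    show IsUnit (fibreFst l σ (α ^ k))
    rw [map_pow]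
    exact ha.pow k
  · intro m
    obtain ⟨⟨x, _, k, rfl⟩, hx⟩ := IsLocalization.surj (Submonoid.powers α.1.2) (l m)
    have hmem : ((m * α.1.1 ^ k, x) : M × N) ∈ fibre l σ := by
      rw [mem_fibre]
      show l (m * α.1.1 ^ k) = σ x
      rw [map_mul, map_pow, (mem_fibre l σ).1 α.2, ← map_pow]
      exact hx
    exact ⟨⟨⟨_, hmem⟩, α ^ k, k, rfl⟩, rfl⟩
  · intro z z' h
    have h1 : z.1.1 = z'.1.1 := h
    have h2 : σ z.1.2 = σ z'.1.2 := by rw [← (mem_fibre l σ).1 z.2, ← (mem_fibre l σ).1 z'.2, h1]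
    obtain ⟨⟨_, k, rfl⟩, hk⟩ := IsLocalization.exists_of_eq (M := Submonoid.powers α.1.2) (S := K) h2
    exact ⟨⟨α ^ k, k, rfl⟩, Subtype.ext (Prod.ext
      (show (α.1 ^ k).1 * z.1.1 = (α.1 ^ k).1 * z'.1.1 by rw [h1]) hk)⟩

theorem fibreSnd_localization (hs : IsUnit (algebraMap S N s))
    (hl : letI := l.toRingHom.toAlgebra; IsLocalization.Away (algebraMap S M s) K) :
    letI := (fibreSnd l σ).toRingHom.toAlgebra; IsLocalization.Away (algebraMap S (fibre l σ) s) N := by
  letI := (fibreSnd l σ).toRingHom.toAlgebra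
  letI := l.toRingHom.toAlgebra
  haveI := hl
  constructor; constructor
  · rintro ⟨_, k, rfl⟩
    show IsUnit (fibreSnd l σ (algebraMap S _ s ^ k))
    rw [map_pow, AlgHom.commutes]
    exact hs.pow k
  · intro x
    obtain ⟨⟨m, _, k, rfl⟩, hm⟩ := IsLocalization.surj (Submonoid.powers (algebraMap S M s)) (σ x)
    have hmem : ((m, x * algebraMap S N s ^ k) : M × N) ∈ fibre l σ := by
      rw [mem_fibre]
      show l m = σ (x * algebraMap S N s ^ k)
      rw [map_mul, map_pow, AlgHom.commutes]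
      have hm' : σ x * l (algebraMap S M s ^ k) = l m := hm
      rw [← hm', map_pow, AlgHom.commutes]
    refine ⟨⟨⟨_, hmem⟩, algebraMap S _ s ^ k, k, rfl⟩, ?_⟩
    show x * fibreSnd l σ (algebraMap S _ s ^ k) = x * algebraMap S N s ^ k
    rw [map_pow, AlgHom.commutes]
  · intro z z' h
    have h1 : z.1.2 = z'.1.2 := h
    have h2 : l z.1.1 = l z'.1.1 := by rw [(mem_fibre l σ).1 z.2, (mem_fibre l σ).1 z'.2, h1]
    obtain ⟨⟨_, k, rfl⟩, hk⟩ := IsLocalization.exists_of_eq (M := Submonoid.powers (algebraMap S M s)) (S := K) h2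
    exact ⟨⟨algebraMap S _ s ^ k, k, rfl⟩, Subtype.ext (Prod.ext hk
      (show (algebraMap S (M × N) s ^ k).2 * z.1.2 = (algebraMap S (M × N) s ^ k).2 * z'.1.2 by rw [h1]))⟩

/-- Localisation commutes with tensor products. -/
theorem away_tensor {R : Type u} [CommRing R] (A : Type u) [CommRing A] [Algebra R A] {T : Type u} [CommRing T]
    [Algebra R T] (τ : T) :
    letI := (Algebra.TensorProduct.map (AlgHom.id R A)
      (IsScalarTower.toAlgHom R T (Localization.Away τ))).toRingHom.toAlgebra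
    IsLocalization.Away ((1 : A) ⊗ₜ[R] τ) (A ⊗[R] Localization.Away τ) := by
  let T2 := Localization.Away τ
  let μ : A ⊗[R] T →ₐ[A] A ⊗[R] T2 := Algebra.TensorProduct.map (AlgHom.id A A) (IsScalarTower.toAlgHom R T T2)
  letI : Algebra (A ⊗[R] T) (A ⊗[R] T2) := μ.toRingHom.toAlgebra
  let W := Localization.Away ((1 : A) ⊗ₜ[R] τ)
  let iW : T →ₐ[R] W := (IsScalarTower.toAlgHom R (A ⊗[R] T) W).comp Algebra.TensorProduct.includeRight
  have hu : ∀ y : Submonoid.powers τ, IsUnit (iW y) := by
    rintro ⟨_, k, rfl⟩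
    show IsUnit (iW (τ ^ k))
    rw [map_pow]
    exact (IsLocalization.Away.algebraMap_isUnit (S := W) ((1 : A) ⊗ₜ[R] τ)).pow k
  let h2 : T2 →ₐ[R] W := IsLocalization.liftAlgHom hu
  let g : A ⊗[R] T2 →ₐ[A] W := Algebra.TensorProduct.lift (Algebra.ofId A W) h2 fun _ _ => Commute.all _ _
  have hg : ∀ z, g (μ z) = algebraMap (A ⊗[R] T) W z := by
    intro z
    induction z using TensorProduct.induction_on with
    | zero => rw [map_zero, map_zero, map_zero]
    | add x y hx hy => rw [map_add, map_add, map_add, hx, hy]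
    | tmul a t =>
      show g (a ⊗ₜ[R] algebraMap T T2 t) = _
      rw [Algebra.TensorProduct.lift_tmul]
      show algebraMap A W a * h2 (algebraMap T T2 t) = _
      rw [show h2 (algebraMap T T2 t) = iW t from IsLocalization.lift_eq _ _,
        IsScalarTower.algebraMap_apply A (A ⊗[R] T) W]
      show _ * algebraMap (A ⊗[R] T) W ((1 : A) ⊗ₜ[R] t) = _
      rw [← map_mul, Algebra.TensorProduct.algebraMap_apply, Algebra.algebraMap_self, RingHom.id_apply,
        Algebra.TensorProduct.tmul_mul_tmul, mul_one, one_mul]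
  have hu2 : ∀ y : Submonoid.powers ((1 : A) ⊗ₜ[R] τ), IsUnit (μ y) := by
    rintro ⟨_, k, rfl⟩
    show IsUnit (μ (((1 : A) ⊗ₜ[R] τ) ^ k))
    rw [map_pow]
    exact ((IsLocalization.Away.algebraMap_isUnit (S := T2) τ).map
      (Algebra.TensorProduct.includeRight : T2 →ₐ[R] A ⊗[R] T2)).pow k
  let back : W →ₐ[A] A ⊗[R] T2 := IsLocalization.liftAlgHom hu2
  have hback : ∀ z, back (algebraMap (A ⊗[R] T) W z) = μ z := fun z => IsLocalization.lift_eq _ z
  have h1 : g.comp back = AlgHom.id A W :=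
    IsLocalization.algHom_ext (Submonoid.powers ((1 : A) ⊗ₜ[R] τ))
      (AlgHom.ext fun z => by
        show g (back (algebraMap _ W z)) = algebraMap _ W z
        rw [hback, hg])
  have h3 : back.comp g = AlgHom.id A (A ⊗[R] T2) := by
    refine Algebra.TensorProduct.ext (Subsingleton.elim _ _) ?_
    refine IsLocalization.algHom_ext (Submonoid.powers τ) (AlgHom.ext fun t => ?_)
    show back (g ((1 : A) ⊗ₜ[R] algebraMap T T2 t)) = (1 : A) ⊗ₜ[R] algebraMap T T2 t
    rw [show (1 : A) ⊗ₜ[R] algebraMap T T2 t = μ ((1 : A) ⊗ₜ[R] t) from rfl, hg, hback]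
  let e : W ≃ₐ[A ⊗[R] T] A ⊗[R] T2 := AlgEquiv.ofBijective
    ({ back.toRingHom with commutes' := hback } : W →ₐ[A ⊗[R] T] A ⊗[R] T2)
    ⟨Function.LeftInverse.injective (g := g) (AlgHom.congr_fun h1),
      Function.RightInverse.surjective (g := g) (AlgHom.congr_fun h3)⟩
  exact IsLocalization.isLocalization_of_algEquiv (Submonoid.powers ((1 : A) ⊗ₜ[R] τ)) e

end Groth.Agent.QAGlueLib

end
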