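import Groth.Agent.QAGlueLib.Piece
import Groth.Agent.QAGlueLib.Fibre
import Groth.Agent.GluePairLib.GlueAlgebra
import Groth.Agent.AlgSpGlue.Local
import Groth.Agent.S2005
import Mathlib.RingTheory.MvPolynomial.Localization

/-! Charts: glueable algebras with compatible flat finitely presented maps to the two pieces. -/

set_option autoImplicit false
set_option linter.style.haveILetI false
set_option backward.isDefEq.respectTransparency false
set_option backward.isDefEq.respectTransparency.types false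
set_option maxHeartbeats 1600000

universe u

open CategoryTheory CategoryTheory.Limits AlgebraicGeometry TensorProduct

noncomputable section

namespace Groth.Agent.QAGlueLib

open _root_.AlgSp Groth.Agent.AlgSpGlue Groth.Agent.GlueEqLib

variable {R R' : Type u} [CommRing R] [CommRing R'] [Algebra R R'] {f : R}

/-- A glueable algebra with compatible flat finitely presented maps to `V` and `Y'`. -/
structure Chart (d : Data R R' f) where
  T : Type u
  [ring : CommRing T]
  [alg : Algebra R T]
  glueable : EtGlue.IsGlueable R R' f T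
  x : specOver R (Localization.Away (algebraMap R T f)) ⟶ d.V
  y : specOver R (R' ⊗[R] T) ⟶ d.Y'
  y_y' : y ≫ d.y' = specMap (Algebra.TensorProduct.includeLeft : R' →ₐ[R] R' ⊗[R] T)
  rel : ∀ (B : Type u) [CommRing B] [Algebra R B] (β : Localization.Away (algebraMap R T f) →ₐ[R] B)
    (γ : R' ⊗[R] T →ₐ[R] B),
    β.comp (IsScalarTower.toAlgHom R T (Localization.Away (algebraMap R T f))) =
      γ.comp (Algebra.TensorProduct.includeRight : T →ₐ[R] R' ⊗[R] T) → d.Rel (specMap β ≫ x) (specMap γ ≫ y)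
  flat_x : Flat x.left
  lfp_x : LocallyOfFinitePresentation x.left
  flat_y : Flat y.left
  lfp_y : LocallyOfFinitePresentation y.left

attribute [instance] Chart.ring Chart.alg

/-- Every element of the base change is congruent to one of the algebra modulo `f`. -/
theorem exists_congr (hq : EtGlue.QuotPowBijective R R' f) {T : Type u} [CommRing T] [Algebra R T] (z : R' ⊗[R] T) :
    ∃ (t : T) (w : R' ⊗[R] T), z = (1 : R') ⊗ₜ[R] t + algebraMap R (R' ⊗[R] T) f * w := by
  induction z using TensorProduct.induction_on with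
  | zero => exact ⟨0, 0, by simp⟩
  | tmul r' t =>
    obtain ⟨r, s, hrs⟩ := GluePairLib.exists_sub_mem_span hq (n := 1) Nat.one_pos r'
    refine ⟨r • t, s ⊗ₜ[R] t, ?_⟩
    rw [hrs, add_tmul, pow_one]
    congr 1
    · rw [TensorProduct.tmul_smul, smul_tmul', Algebra.smul_def, mul_one]
    · rw [← Algebra.smul_def, ← Algebra.smul_def, smul_tmul']
  | add a b ha hb =>
    obtain ⟨t, w, rfl⟩ := ha; obtain ⟨t', w', rfl⟩ := hb
    exact ⟨t + t', w + w', by rw [tmul_add]; ring⟩

/-- A unit localisation map on spectra. -/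
theorem isOpenImmersion_specMap {A B : Type u} [CommRing A] [Algebra R A] [CommRing B] [Algebra R B]
    (φ : A →ₐ[R] B) (c : A) (h : letI := φ.toRingHom.toAlgebra; IsLocalization.Away c B) :
    IsOpenImmersion (specMap φ).left :=
  (isOpenImmersion_of_away φ c h).1

theorem isOpenImmersion_comp {A B C : Type u} [CommRing A] [Algebra R A] [CommRing B] [Algebra R B] [CommRing C]
    [Algebra R C] (φ : A →ₐ[R] B) (ψ : B →ₐ[R] C) (h : IsOpenImmersion (specMap φ).left)
    (h' : IsOpenImmersion (specMap ψ).left) : IsOpenImmersion (specMap (ψ.comp φ)).left := by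
  haveI := h; haveI := h'
  rw [← specMap_comp, Over.comp_left]
  infer_instance

theorem isOpenImmersion_of_comp {A B C : Type u} [CommRing A] [Algebra R A] [CommRing B] [Algebra R B] [CommRing C]
    [Algebra R C] (φ : A →ₐ[R] B) (ψ : B →ₐ[R] C) (h : IsOpenImmersion (specMap φ).left)
    (h' : IsOpenImmersion (specMap (ψ.comp φ)).left) : IsOpenImmersion (specMap ψ).left := by
  haveI := h
  haveI : IsOpenImmersion ((specMap ψ).left ≫ (specMap φ).left) := by
    rwa [← Over.comp_left, specMap_comp]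
  exact IsOpenImmersion.of_comp (specMap ψ).left (specMap φ).left

variable (d : Data R R' f) {P : Type u} [CommRing P] [Algebra R P] (p : specOver R P ⟶ d.V)

theorem isGlueable_of_isUnit (hRR' : EtGlue.IsGlueingPair R R' f) (M : Type u) [AddCommGroup M] [Module R M]
    (h : ∀ m : M, f • m = 0 → m = 0) : EtGlue.IsGlueable R R' f M := by
  refine ((Groth.Agent.S2005.result R R' f hRR'.1 M).2 hRR').2 fun m hm _ => ?_
  obtain ⟨n, hn⟩ := hm
  induction n with
  | zero => simpa using hn
  | succ n ih =>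
    refine ih (h _ ?_)
    rw [smul_smul, ← pow_succ']
    exact hn

include d p in
theorem isUnit_P : IsUnit (algebraMap R P f) := d.isUnit_of_V p

/-- The chart given by the cover itself. -/
theorem exists_chart_triv (hRR' : EtGlue.IsGlueingPair R R' f) (hpf : Flat p.left)
    (hplfp : LocallyOfFinitePresentation p.left) {n : ℕ} (hp : IsUnivCover p n) :
    ∃ c : Chart d, (∀ z : d.V.left, z ∈ Set.range p.left → z ∈ Set.range c.x.left) ∧
      ∀ z : d.Y'.left, z ∈ Set.range (yP d p).left → z ∈ Set.range c.y.left := by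
  have hu := isUnit_P d p
  let Pf := Localization.Away (algebraMap R P f)
  let e : P ≃ₐ[P] Pf := IsLocalization.atUnits P (Submonoid.powers (algebraMap R P f)) (by
    rintro _ ⟨k, rfl⟩
    exact hu.pow k)
  let β0 : P →ₐ[R] Pf := IsScalarTower.toAlgHom R P Pf
  haveI h0 : IsOpenImmersion (specMap β0).left :=
    inferInstanceAs (IsOpenImmersion (Spec.map (CommRingCat.ofHom (algebraMap P Pf))))
  obtain ⟨hyf, hylfp⟩ := flat_lfp_yP d hp
  refine ⟨{ T := P
            glueable := isGlueable_of_isUnit hRR' P fun m hm => ?_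
            x := specMap β0 ≫ p
            y := yP d p
            y_y' := yP_y' d p
            rel := fun B _ _ β γ h => ?_
            flat_x := ?_
            lfp_x := ?_
            flat_y := hyf
            lfp_y := hylfp }, fun z hz => ?_, fun z hz => hz⟩
  · rw [Algebra.smul_def] at hm
    exact hu.mul_right_eq_zero.1 hm
  · have := d.rel_comp (specMap γ) (rel_yP d p)
    rw [specMap_comp_assoc, ← h, ← specMap_comp_assoc] at this
    exact this
  · haveI := hpf
    show Flat ((specMap β0).left ≫ p.left)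
    infer_instance
  · haveI := hplfp
    show LocallyOfFinitePresentation ((specMap β0).left ≫ p.left)
    infer_instance
  · obtain ⟨q, rfl⟩ := hz
    refine ⟨PrimeSpectrum.comap e.symm.toAlgHom.toRingHom q, ?_⟩
    show p.left (PrimeSpectrum.comap (algebraMap P Pf) _) = p.left q
    congr 1
    rw [← PrimeSpectrum.comap_comp_apply,
      show (e.symm.toAlgHom.toRingHom).comp (algebraMap P Pf) = RingHom.id P from RingHom.ext e.symm.commutes,
      PrimeSpectrum.comap_id]

/-- Glueing an `R'`-algebra and an algebra over `R_f`. -/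
theorem exists_glue_algebra (hRR' : EtGlue.IsGlueingPair R R' f) {P : Type u} [CommRing P] [Algebra R P]
    (h1 : IsUnit (algebraMap R P f)) {A : Type u} [CommRing A] [Algebra R A] [Algebra R' A] [IsScalarTower R R' A]
    (sn : A →ₐ[R'] R' ⊗[R] P)
    (hsn : letI := sn.toRingHom.toAlgebra; IsLocalization.Away (algebraMap R A f) (R' ⊗[R] P)) :
    ∃ (T : Type u) (_ : CommRing T) (_ : Algebra R T) (s : T →ₐ[R] P) (e : R' ⊗[R] T ≃ₐ[R'] A),
      EtGlue.IsGlueable R R' f T ∧ (letI := s.toRingHom.toAlgebra; IsLocalization.Away (algebraMap R T f) P) ∧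
      ∀ t, sn (e ((1 : R') ⊗ₜ[R] t)) = (1 : R') ⊗ₜ[R] s t := by
  letI algAP : Algebra A (R' ⊗[R] P) := sn.toRingHom.toAlgebra
  haveI : IsScalarTower R' A (R' ⊗[R] P) := IsScalarTower.of_algebraMap_eq fun r => (sn.commutes r).symm
  haveI := hsn
  let φ : Localization.Away (algebraMap R A f) ≃ₐ[R'] R' ⊗[R] P :=
    (IsLocalization.algEquiv (Submonoid.powers (algebraMap R A f)) (Localization.Away (algebraMap R A f))
      (R' ⊗[R] P)).restrictScalars R'
  have hto : ∀ x : A, GluePairLib.toTensor φ x = sn x := fun x =>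
    (IsLocalization.algEquiv (Submonoid.powers (algebraMap R A f)) (Localization.Away (algebraMap R A f))
      (R' ⊗[R] P)).commutes x
  letI algTP : Algebra (GluePairLib.glue φ) P := (GluePairLib.glueSnd φ).toRingHom.toAlgebra
  haveI : IsScalarTower R (GluePairLib.glue φ) P :=
    IsScalarTower.of_algebraMap_eq fun r => ((GluePairLib.glueSnd φ).commutes r).symm
  refine ⟨GluePairLib.glue φ, inferInstance, inferInstance, GluePairLib.glueSnd φ,
    AlgEquiv.ofBijective (GluePairLib.glueLift φ)
      ⟨GluePairLib.glueLift_injective φ h1 hRR', GluePairLib.glueLift_surjective φ h1 hRR'.1⟩,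
    GluePairLib.isGlueable_glue φ h1 hRR', ?_, fun t => ?_⟩
  · have h : IsLocalizedModule (Submonoid.powers f) (IsScalarTower.toAlgHom R (GluePairLib.glue φ) P).toLinearMap :=
      GluePairLib.glueSnd_localization φ h1
    rw [isLocalizedModule_iff_isLocalization, Algebra.algebraMapSubmonoid, Submonoid.map_powers] at h
    exact h
  · show sn (GluePairLib.glueLift φ ((1 : R') ⊗ₜ[R] t)) = _
    rw [GluePairLib.glueLift_one_tmul, ← hto]
    exact (GluePairLib.mem_glue φ).1 t.2

/-- A map from a localisation commuting with algebra structures. -/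
theorem exists_lift_loc {A M B : Type u} [CommRing A] [Algebra R A] [CommRing M] [Algebra R M] [CommRing B]
    [Algebra R B] (i : A →ₐ[R] M) (c : A) (hi : letI := i.toRingHom.toAlgebra; IsLocalization.Away c M)
    (g : A →ₐ[R] B) (hu : IsUnit (g c)) : ∃ h : M →ₐ[R] B, h.comp i = g := by
  letI := i.toRingHom.toAlgebra
  haveI := hi
  have hu' : ∀ y : Submonoid.powers c, IsUnit (g.toRingHom y) := by
    rintro ⟨_, k, rfl⟩
    show IsUnit (g (c ^ k))
    rw [map_pow]
    exact hu.pow k
  let h₀ : M →+* B := IsLocalization.lift hu'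
  have h₀i : ∀ x, h₀ (i x) = g x := fun x => IsLocalization.lift_eq hu' x
  exact ⟨{ h₀ with
    commutes' := fun r => by
      show h₀ (algebraMap R M r) = _
      rw [← i.commutes, h₀i, g.commutes] }, AlgHom.ext h₀i⟩

theorem away_self {A : Type u} [CommRing A] [Algebra R A] (c : A) :
    letI := (IsScalarTower.toAlgHom R A (Localization.Away c)).toRingHom.toAlgebra
    IsLocalization.Away c (Localization.Away c) := by
  rw [show (IsScalarTower.toAlgHom R A (Localization.Away c)).toRingHom.toAlgebra =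
      (inferInstance : Algebra A (Localization.Away c)) from Algebra.algebra_ext _ _ fun _ => rfl]
  infer_instance

/-- Shrinking the glued algebra around the points with `f = 0` outside `α = 0`. -/
theorem exists_shrink (hRR' : EtGlue.IsGlueingPair R R' f) {P : Type u} [CommRing P] [Algebra R P]
    {A : Type u} [CommRing A] [Algebra R A] [Algebra R' A] [IsScalarTower R R' A]
    (sn : A →ₐ[R'] R' ⊗[R] P) {T : Type u} [CommRing T] [Algebra R T] (s : T →ₐ[R] P) (e : R' ⊗[R] T ≃ₐ[R'] A)
    (hT : EtGlue.IsGlueable R R' f T) (hs : letI := s.toRingHom.toAlgebra; IsLocalization.Away (algebraMap R T f) P)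
    (he : ∀ t, sn (e ((1 : R') ⊗ₜ[R] t)) = (1 : R') ⊗ₜ[R] s t) (α : A) :
    ∃ (T2 : Type u) (_ : CommRing T2) (_ : Algebra R T2) (ρ : A →ₐ[R] R' ⊗[R] T2)
      (β0 : P →ₐ[R] Localization.Away (algebraMap R T2 f)),
      EtGlue.IsGlueable R R' f T2 ∧ IsOpenImmersion (specMap ρ).left ∧ IsOpenImmersion (specMap β0).left ∧
      (∀ r : R', ρ (algebraMap R' A r) = algebraMap R' (R' ⊗[R] T2) r) ∧
      (∀ Q : PrimeSpectrum (R' ⊗[R] T2), ρ α ∉ Q.asIdeal ∨ algebraMap R (R' ⊗[R] T2) f ∉ Q.asIdeal) ∧
      (∀ (B : Type u) [CommRing B] [Algebra R B] (β : Localization.Away (algebraMap R T2 f) →ₐ[R] B)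
        (γ : R' ⊗[R] T2 →ₐ[R] B) (θ : R' ⊗[R] P →ₐ[R] B),
        β.comp (IsScalarTower.toAlgHom R T2 _) = γ.comp (Algebra.TensorProduct.includeRight : T2 →ₐ[R] R' ⊗[R] T2) →
          (∀ x, θ (sn x) = γ (ρ x)) →
            β.comp β0 = θ.comp (Algebra.TensorProduct.includeRight : P →ₐ[R] R' ⊗[R] P)) ∧
      ∀ (κ : Type u) [Field κ] [Algebra R κ] (ω : A →ₐ[R] κ), algebraMap R κ f = 0 → ω α ≠ 0 →
        ∃ g : R' ⊗[R] T2 →ₐ[R] κ, g.comp ρ = ω := by
  obtain ⟨τ, w, hw⟩ := exists_congr hRR'.1 (e.symm α)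
  let T2 := Localization.Away τ
  let T2f := Localization.Away (algebraMap R T2 f)
  let Y2 := R' ⊗[R] T2
  let iT : T →ₐ[R] T2 := IsScalarTower.toAlgHom R T T2
  let μ : R' ⊗[R] T →ₐ[R] Y2 := Algebra.TensorProduct.map (AlgHom.id R R') iT
  let eR : R' ⊗[R] T →ₐ[R] A := e.toAlgHom.restrictScalars R
  let ρ : A →ₐ[R] Y2 := μ.comp (e.symm.toAlgHom.restrictScalars R)
  have hμ1 : ∀ t, μ ((1 : R') ⊗ₜ[R] t) = (1 : R') ⊗ₜ[R] iT t := fun t =>
    Algebra.TensorProduct.map_tmul (AlgHom.id R R') iT 1 t
  have hμ2 : ∀ r : R', μ (r ⊗ₜ[R] (1 : T)) = r ⊗ₜ[R] (1 : T2) := fun r =>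
    (Algebra.TensorProduct.map_tmul (AlgHom.id R R') iT r 1).trans (congrArg (r ⊗ₜ[R] ·) (map_one iT))
  let iTf : T →ₐ[R] T2f := (IsScalarTower.toAlgHom R T2 T2f).comp iT
  obtain ⟨β0, hβ0⟩ := exists_lift_loc s (algebraMap R T f) hs iTf (by
    rw [AlgHom.commutes, IsScalarTower.algebraMap_apply R T2 T2f]
    exact IsLocalization.Away.algebraMap_isUnit _)
  refine ⟨T2, inferInstance, inferInstance, ρ, β0, ?_, ?_, ?_, fun r => ?_, fun Q => ?_,
    fun B _ _ β γ θ h hθ => ?_, fun κ _ _ ω hωf hωα => ?_⟩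
  · haveI : Module.Flat T T2 := IsLocalization.flat _ (Submonoid.powers τ)
    exact ((Groth.Agent.S2005.result R R' f hRR'.1 T2).2 hRR').2
      (torsInj_of_flat (A := T) (((Groth.Agent.S2005.result R R' f hRR'.1 T).2 hRR').1 hT))
  · refine isOpenImmersion_comp _ μ ?_ (isOpenImmersion_specMap μ ((1 : R') ⊗ₜ[R] τ) (away_tensor R' τ))
    show IsOpenImmersion (Spec.map e.symm.toRingEquiv.toCommRingCatIso.hom)
    infer_instance
  · refine isOpenImmersion_of_comp s β0 (isOpenImmersion_specMap s _ hs) ?_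
    rw [hβ0]
    exact isOpenImmersion_comp _ _ (isOpenImmersion_specMap iT τ (away_self τ))
      (isOpenImmersion_specMap _ _ (away_self (R := R) (algebraMap R T2 f)))
  · show μ (e.symm (algebraMap R' A r)) = _
    rw [AlgEquiv.commutes]
    exact hμ2 r
  · by_contra hcon
    push_neg at hcon
    have e1 : ρ α = (1 : R') ⊗ₜ[R] iT τ + algebraMap R Y2 f * μ w := by
      show μ (e.symm α) = _
      rw [hw, map_add, map_mul, AlgHom.commutes, hμ1]
    have hu : IsUnit ((1 : R') ⊗ₜ[R] iT τ) :=
      (IsLocalization.Away.algebraMap_isUnit (S := T2) τ).map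
        (Algebra.TensorProduct.includeRight : T2 →ₐ[R] Y2)
    refine Q.isPrime.ne_top (Ideal.eq_top_of_isUnit_mem _ ?_ hu)
    rw [← Q.asIdeal.add_mem_iff_left (Q.asIdeal.mul_mem_right (μ w) hcon.2), ← e1]
    exact hcon.1
  · letI := s.toRingHom.toAlgebra
    haveI := hs
    apply AlgHom.coe_ringHom_injective
    refine IsLocalization.ringHom_ext (Submonoid.powers (algebraMap R T f)) (RingHom.ext fun t => ?_)
    show β (β0 (s t)) = θ ((1 : R') ⊗ₜ[R] s t)
    rw [show β0 (s t) = iTf t from AlgHom.congr_fun hβ0 t, ← he, hθ]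
    refine (AlgHom.congr_fun h (iT t)).trans (congrArg γ ?_)
    show (1 : R') ⊗ₜ[R] iT t = μ (e.symm (e ((1 : R') ⊗ₜ[R] t)))
    rw [AlgEquiv.symm_apply_apply, hμ1]
  · let ωT : T →ₐ[R] κ := (ω.comp eR).comp Algebra.TensorProduct.includeRight
    have hωτ : IsUnit (ωT τ) := by
      refine isUnit_iff_ne_zero.2 fun h0 => hωα ?_
      rw [show α = eR (e.symm α) from (e.apply_symm_apply α).symm, hw, map_add, map_add, map_mul, map_mul]
      show ωT τ + ω (eR (algebraMap R _ f)) * ω (eR w) = 0
      rw [h0, zero_add, eR.commutes, ω.commutes, hωf, zero_mul]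
    obtain ⟨ω2, hω2⟩ := exists_lift_loc iT τ (away_self τ) ωT hωτ
    let g : Y2 →ₐ[R] κ := Algebra.TensorProduct.lift
      ((ω.comp eR).comp Algebra.TensorProduct.includeLeft) ω2 fun _ _ => Commute.all _ _
    have hg : g.comp μ = ω.comp eR := by
      refine Algebra.TensorProduct.ext (AlgHom.ext fun r => ?_) (AlgHom.ext fun t => ?_)
      · show g (μ (r ⊗ₜ[R] (1 : T))) = ω (eR (r ⊗ₜ[R] (1 : T)))
        rw [hμ2, Algebra.TensorProduct.lift_tmul, map_one, mul_one]
        rfl
      · show g (μ ((1 : R') ⊗ₜ[R] t)) = ωT t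
        rw [hμ1, Algebra.TensorProduct.lift_tmul, map_one, one_mul]
        exact AlgHom.congr_fun hω2 t
    exact ⟨g, AlgHom.ext fun x => (AlgHom.congr_fun hg (e.symm x)).trans (congrArg ω (e.apply_symm_apply x))⟩

/-- A field valued point at a point of a piece over `f = 0`. -/
theorem exists_field_of_mem {a : Γ(d.Y'.left, ⊤)} (pc : Piece d a) (z : d.Y'.left)
    (hz : z ∈ d.Y'.left.basicOpen a) (hzf0 : f ∈ (d.Y'.hom z).asIdeal) :
    ∃ (κ : Type u) (_ : Field κ) (_ : Algebra R κ) (δ : pc.D →ₐ[R] κ),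
      algebraMap R κ f = 0 ∧ ∃ pt : (specOver R κ).left, (specMap δ ≫ pc.j).left pt = z := by
  have hr : z ∈ Set.range pc.j.left := by rw [pc.range_j]; exact hz
  obtain ⟨q, hq⟩ := Set.mem_range.1 hr
  let qq : PrimeSpectrum pc.D := q
  have hw' := congrArg (fun m => m q) (Over.w pc.j)
  simp only [Scheme.Hom.comp_apply] at hw'
  rw [← hq, hw'] at hzf0
  have hfq : algebraMap R pc.D f ∈ qq.asIdeal := hzf0
  refine ⟨qq.asIdeal.ResidueField, inferInstance, inferInstance,
    IsScalarTower.toAlgHom R pc.D qq.asIdeal.ResidueField, ?_, (⟨⊥, Ideal.isPrime_bot⟩ : PrimeSpectrum qq.asIdeal.ResidueField), ?_⟩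
  · rw [IsScalarTower.algebraMap_apply R pc.D qq.asIdeal.ResidueField, ← RingHom.mem_ker,
      Ideal.ker_algebraMap_residueField]
    exact hfq
  · rw [Over.comp_left, Scheme.Hom.comp_apply, ← hq]
    congr 1
    refine PrimeSpectrum.ext ?_
    show RingHom.ker (algebraMap pc.D qq.asIdeal.ResidueField) = _
    exact Ideal.ker_algebraMap_residueField _

variable {p} {n : ℕ}

/-- The glued functions on a piece and the cover. -/
theorem exists_setup (hp : IsUnivCover p n) {a : Γ(d.Y'.left, ⊤)} (pc : Piece d a) :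
    ∃ (M : Type u) (_ : CommRing M) (_ : Algebra R M) (CM : pc.D →ₐ[R] M)
      (A : Type u) (_ : CommRing A) (_ : Algebra R A) (_ : Algebra R' A) (_ : IsScalarTower R R' A)
      (fs : A →ₐ[R] M) (sn : A →ₐ[R'] R' ⊗[R] P) (γA : Γ(d.Y'.left, ⊤) →+* A),
      Flat (specMap CM).left ∧ LocallyOfFinitePresentation (specMap CM).left ∧
      (∀ (κ : Type u) [CommRing κ] [Algebra R κ] (δ : pc.D →ₐ[R] κ), ∃ ev : M →ₐ[R] κ, ev.comp CM = δ) ∧
      (letI := fs.toRingHom.toAlgebra; IsLocalization.Away (γA a) M) ∧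
      (letI := sn.toRingHom.toAlgebra; IsLocalization.Away (algebraMap R A f) (R' ⊗[R] P)) ∧
      (∀ r, fs (γA r) = CM (pull pc.j r)) ∧
      (∀ r, sn (γA r) = pull (yP d p) r) ∧
      (∀ r, γA (pullR d r) = algebraMap R' A r) ∧ ∀ r, γA (strΓ d.Y' r) = algebraMap R A r := by
  let M := MvPolynomial (Fin n) pc.D
  let K := MvPolynomial (Fin n) pc.L
  obtain ⟨σ, hσ, hσj⟩ := exists_overlap d hp pc
  let P' := R' ⊗[R] P
  let l : M →ₐ[R'] K := MvPolynomial.mapAlgHom (IsScalarTower.toAlgHom R' pc.D pc.L)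
  have hl : letI := l.toRingHom.toAlgebra; IsLocalization.Away (algebraMap R' M (algebraMap R R' f)) K := by
    letI := l.toRingHom.toAlgebra
    have h := MvPolynomial.isLocalization (σ := Fin n) (Submonoid.powers (algebraMap R pc.D f)) pc.L
    rw [Submonoid.map_powers] at h
    rw [show algebraMap R' M (algebraMap R R' f) = MvPolynomial.C (algebraMap R pc.D f) by
      rw [IsScalarTower.algebraMap_apply R R' pc.D]; rfl]
    exact h
  let CM : pc.D →ₐ[R] M := IsScalarTower.toAlgHom R pc.D M
  have hmem : ∀ r : Γ(d.Y'.left, ⊤), ((CM (pull pc.j r), pull (yP d p) r) : M × P') ∈ fibre l σ := fun r => by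
    rw [mem_fibre]
    have h := congrArg (fun z => pull z r) hσj
    simp only [pull_comp, RingHom.comp_apply] at h
    refine Eq.trans ?_ h.symm
    show MvPolynomial.map (algebraMap pc.D pc.L) (MvPolynomial.C (pull pc.j r)) = _
    rw [MvPolynomial.map_C]
    rfl
  have huP : IsUnit (algebraMap R' P' (algebraMap R R' f)) := by
    rw [← IsScalarTower.algebraMap_apply R R' P']
    have := (isUnit_P d p).map (Algebra.TensorProduct.includeRight : P →ₐ[R] P')
    rwa [AlgHom.commutes] at this
  refine ⟨M, inferInstance, inferInstance, CM, fibre l σ, inferInstance, inferInstance, inferInstance, inferInstance,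
    (fibreFst l σ).restrictScalars R, fibreSnd l σ,
    RingHom.codRestrict (((CM.toRingHom.comp (pull pc.j)).prod (pull (yP d p)))) (fibre l σ) hmem,
    (HasRingHomProperty.Spec_iff (P := @Flat)).2
      (RingHom.flat_algebraMap_iff.2 (inferInstance : Module.Flat pc.D M)),
    (HasRingHomProperty.Spec_iff (P := @LocallyOfFinitePresentation)).2
      (RingHom.finitePresentation_algebraMap.2 (inferInstance : Algebra.FinitePresentation pc.D M)),
    fun κ _ _ δ => ?_,
    fibreFst_localization l σ _ (pc.unit.map CM.toRingHom) hσ, ?_, fun r => rfl, fun r => rfl,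
    fun r => Subtype.ext (Prod.ext ?_ ?_), fun r => Subtype.ext (Prod.ext ?_ ?_)⟩
  · letI : Algebra pc.D κ := δ.toRingHom.toAlgebra
    haveI : IsScalarTower R pc.D κ := IsScalarTower.of_algebraMap_eq fun r => (δ.commutes r).symm
    let ev : M →ₐ[pc.D] κ := MvPolynomial.aeval fun _ => 0
    exact ⟨ev.restrictScalars R, AlgHom.ext fun x => ev.commutes x⟩
  · rw [IsScalarTower.algebraMap_apply R R' (fibre l σ)]
    exact fibreSnd_localization l σ (algebraMap R R' f) huP hl
  · show CM (pull pc.j (pullR d r)) = algebraMap R' M r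
    rw [pull_pullR d pc.j _ pc.j_y']
    rfl
  · show pull (yP d p) (pullR d r) = algebraMap R' P' r
    rw [pull_pullR d _ _ (yP_y' d p)]
    rfl
  · exact (congrArg CM (RingHom.congr_fun (pull_str pc.j) r)).trans (CM.commutes r)
  · exact RingHom.congr_fun (pull_str (yP d p)) r

/-- The chart over an affine basic open of `Y'`, covering its points over `f = 0`. -/
theorem exists_chart (hRR' : EtGlue.IsGlueingPair R R' f) (hpf : Flat p.left)
    (hplfp : LocallyOfFinitePresentation p.left) (hp : IsUnivCover p n) {a : Γ(d.Y'.left, ⊤)} (pc : Piece d a) :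
    ∃ c : Chart d, ∀ z : d.Y'.left, z ∈ d.Y'.left.basicOpen a → f ∈ (d.Y'.hom z).asIdeal →
      z ∈ Set.range c.y.left := by
  haveI := d.qaY
  obtain ⟨M, _, _, CM, A, _, _, _, _, fsR, sn, γA, hCMf, hCMlfp, hev, hfa, hsn, hfsγ, hsnγ, hγR, hγs⟩ :=
    exists_setup d hp pc
  obtain ⟨T, _, _, s, e, hT, hs, he⟩ := exists_glue_algebra hRR' (isUnit_P d p) sn hsn
  obtain ⟨T2, _, _, ρ, β0, hglue, hρ, hβo, hρR, hdich, hcompat, hfield⟩ :=
    exists_shrink hRR' sn s e hT hs he (γA a)
  let Y2 := R' ⊗[R] T2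
  -- the two opens
  let Wa := Localization.Away (ρ (γA a))
  let Wf := Localization.Away (algebraMap R Y2 f)
  let ia : Y2 →ₐ[R] Wa := IsScalarTower.toAlgHom R Y2 Wa
  let if_ : Y2 →ₐ[R] Wf := IsScalarTower.toAlgHom R Y2 Wf
  have hia : IsOpenImmersion (specMap ia).left := isOpenImmersion_specMap ia _ (away_self _)
  have hif : IsOpenImmersion (specMap if_).left := isOpenImmersion_specMap if_ _ (away_self _)
  let snR : A →ₐ[R] R' ⊗[R] P := sn.restrictScalars R
  obtain ⟨μa, hμa⟩ := exists_lift_loc fsR (γA a) hfa (ia.comp ρ)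
    (IsLocalization.Away.algebraMap_isUnit (S := Wa) (ρ (γA a)))
  obtain ⟨μf, hμf⟩ := exists_lift_loc snR (algebraMap R A f) hsn (if_.comp ρ) (by
    rw [AlgHom.comp_apply, AlgHom.commutes]
    exact IsLocalization.Away.algebraMap_isUnit (S := Wf) (algebraMap R Y2 f))
  let γ : Γ(d.Y'.left, ⊤) →+* Y2 := ρ.toRingHom.comp γA
  let za : specOver R Wa ⟶ d.Y' := specMap (μa.comp CM) ≫ pc.j
  let zf : specOver R Wf ⟶ d.Y' := specMap μf ≫ yP d p
  have hza : pull za = ia.toRingHom.comp γ := by
    refine RingHom.ext fun r => ?_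
    rw [pull_comp]
    exact (congrArg μa (hfsγ r)).symm.trans (AlgHom.congr_fun hμa (γA r))
  have hzf : pull zf = if_.toRingHom.comp γ := by
    refine RingHom.ext fun r => ?_
    rw [pull_comp]
    exact (congrArg μf (hsnγ r)).symm.trans (AlgHom.congr_fun hμf (γA r))
  have hγstr : γ.comp (strΓ d.Y') = algebraMap R Y2 :=
    RingHom.ext fun r => (congrArg ρ (hγs r)).trans (ρ.commutes r)
  have hcov : ∀ Q : PrimeSpectrum Y2, Q ∈ Set.range (specMap ia).left ∨ Q ∈ Set.range (specMap if_).left := fun Q =>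
    (hdich Q).imp (fun h => (PrimeSpectrum.localization_away_comap_range Wa (ρ (γA a))).ge h)
      (fun h => (PrimeSpectrum.localization_away_comap_range Wf (algebraMap R Y2 f)).ge h)
  obtain ⟨y₀, hy₀⟩ := exists_point d.Y' γ hγstr (by
    rintro _ ⟨Q, rfl⟩
    rcases hcov Q with ⟨S, rfl⟩ | ⟨S, rfl⟩
    · refine ⟨za.left S, ?_⟩
      rw [← Scheme.Hom.comp_apply, comp_toSpecΓ, hza]
      exact congrArg (fun m => m S) (Spec.map_comp (CommRingCat.ofHom γ) (CommRingCat.ofHom ia.toRingHom))
    · refine ⟨zf.left S, ?_⟩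
      rw [← Scheme.Hom.comp_apply, comp_toSpecΓ, hzf]
      exact congrArg (fun m => m S) (Spec.map_comp (CommRingCat.ofHom γ) (CommRingCat.ofHom if_.toRingHom)))
  have hy : pull y₀ = γ := by
    have h := comp_toSpecΓ y₀
    rw [hy₀] at h
    exact (congrArg CommRingCat.Hom.hom (Spec.map_injective h)).symm
  have hya : specMap ia ≫ y₀ = za := point_ext (by rw [pull_comp, hy, hza])
  have hyf : specMap if_ ≫ y₀ = zf := point_ext (by rw [pull_comp, hy, hzf])
  have hyflat : Flat y₀.left ∧ LocallyOfFinitePresentation y₀.left := by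
    have hμa' : IsOpenImmersion (specMap μa).left := by
      refine isOpenImmersion_of_comp fsR μa (isOpenImmersion_specMap fsR _ hfa) ?_
      rw [hμa]
      exact isOpenImmersion_comp _ _ hρ hia
    have hμf' : IsOpenImmersion (specMap μf).left := by
      refine isOpenImmersion_of_comp snR μf (isOpenImmersion_specMap snR _ hsn) ?_
      rw [hμf]
      exact isOpenImmersion_comp _ _ hρ hif
    haveI := hCMf
    haveI := hCMlfp
    obtain ⟨hyP1, hyP2⟩ := flat_lfp_yP d hp
    have ea : (specMap ia).left ≫ y₀.left = (specMap μa).left ≫ (specMap CM).left ≫ pc.j.left := by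
      have h := congrArg (fun m => m.left) hya
      simp only [za, Over.comp_left, ← specMap_comp, Category.assoc] at h
      exact h
    have ef : (specMap if_).left ≫ y₀.left = (specMap μf).left ≫ (yP d p).left := congrArg (fun m => m.left) hyf
    let U : ULift.{u} Bool → Scheme.{u} := fun b => bif b.down then (specOver R Wa).left else (specOver R Wf).left
    let J : ∀ b, U b ⟶ (specOver R Y2).left := fun ⟨b⟩ =>
      match b with
      | true => (specMap ia).left
      | false => (specMap if_).left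
    haveI : ∀ b, IsOpenImmersion (J b) := by
      rintro ⟨_ | _⟩
      exacts [hif, hia]
    have hJ : ∀ Q, ∃ b, Q ∈ Set.range (J b) := fun Q => by
      rcases hcov Q with h | h
      exacts [⟨⟨true⟩, h⟩, ⟨⟨false⟩, h⟩]
    refine ⟨prop_of_cover (P := @Flat) _ U J hJ ?_,
      prop_of_cover (P := @LocallyOfFinitePresentation) _ U J hJ ?_⟩
    · rintro ⟨_ | _⟩
      · show Flat ((specMap if_).left ≫ y₀.left)
        rw [ef]
        infer_instance
      · show Flat ((specMap ia).left ≫ y₀.left)
        rw [ea]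
        infer_instance
    · rintro ⟨_ | _⟩
      · show LocallyOfFinitePresentation ((specMap if_).left ≫ y₀.left)
        rw [ef]
        infer_instance
      · show LocallyOfFinitePresentation ((specMap ia).left ≫ y₀.left)
        rw [ea]
        infer_instance
  refine ⟨{ T := T2
            glueable := hglue
            x := specMap β0 ≫ p
            y := y₀
            y_y' := ?_
            rel := fun B _ _ β γ' h => ?_
            flat_x := ?_
            lfp_x := ?_
            flat_y := hyflat.1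
            lfp_y := hyflat.2 }, fun z hz hzf0 => ?_⟩
  · obtain ⟨θ, hθ⟩ := specMap_surjective (y₀ ≫ d.y')
    rw [← hθ]
    congr 1
    refine AlgHom.ext fun r => ?_
    rw [← pull_pullR d y₀ θ hθ.symm r, hy]
    show ρ (γA (pullR d r)) = algebraMap R' Y2 r
    rw [hγR, hρR]
  · have hfB : IsUnit (algebraMap R B f) := by
      rw [← β.commutes, IsScalarTower.algebraMap_apply R T2 (Localization.Away (algebraMap R T2 f))]
      exact (IsLocalization.Away.algebraMap_isUnit _).map β
    obtain ⟨θ, hθ⟩ := exists_lift_loc snR (algebraMap R A f) hsn (γ'.comp ρ) (by rw [AlgHom.commutes]; exact hfB)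
    have h2 : specMap γ' ≫ y₀ = specMap θ ≫ yP d p := by
      refine point_ext (RingHom.ext fun r => ?_)
      rw [pull_comp, pull_comp, hy]
      exact (AlgHom.congr_fun hθ (γA r)).symm.trans (congrArg θ (hsnγ r))
    rw [specMap_comp_assoc, hcompat B β γ' θ h (AlgHom.congr_fun hθ), ← specMap_comp_assoc, h2]
    exact d.rel_comp _ (rel_yP d p)
  · haveI := hpf
    haveI := hβo
    show Flat ((specMap β0).left ≫ p.left)
    infer_instance
  · haveI := hplfp
    haveI := hβo
    show LocallyOfFinitePresentation ((specMap β0).left ≫ p.left)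
    infer_instance
  -- points over f = 0
  show z ∈ Set.range y₀.left
  clear hya hyf hza hzf hcov
  obtain ⟨κ, _, _, δ, hωf, pt, hpt⟩ := exists_field_of_mem d pc z hz hzf0
  obtain ⟨evR, hevR⟩ := hev κ δ
  have hωα : evR (fsR (γA a)) ≠ 0 := by
    rw [hfsγ]
    exact ((pc.unit.map CM.toRingHom).map evR).ne_zero
  obtain ⟨g, hg⟩ := hfield κ (evR.comp fsR) hωf hωα
  have e2 : specMap g ≫ y₀ = specMap δ ≫ pc.j := by
    refine point_ext (RingHom.ext fun r => ?_)
    rw [pull_comp, pull_comp, hy]
    exact ((AlgHom.congr_fun hg (γA r)).trans (congrArg evR (hfsγ r))).trans (AlgHom.congr_fun hevR _)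
  refine ⟨(specMap g).left pt, ?_⟩
  rw [← hpt, ← Scheme.Hom.comp_apply, ← Over.comp_left, e2]

end Groth.Agent.QAGlueLib

end
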