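import Groth.Agent.GlueEqLib.Chart

/-! An affine smooth cover of a quasi-affine scheme, which is an affine space over every affine point. -/

set_option autoImplicit false
set_option linter.style.haveILetI false
set_option backward.isDefEq.respectTransparency false
set_option backward.isDefEq.respectTransparency.types false
set_option maxHeartbeats 800000

universe u

open CategoryTheory CategoryTheory.Limits AlgebraicGeometry TensorProduct

noncomputable section

namespace Groth.Agent.QAGlueLib

open _root_.AlgSp Groth.Agent.AlgSpGlue Groth.Agent.GlueEqLib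

variable {R : Type u} [CommRing R]

/-- The structure map of the global functions. -/
def strΓ (X : Over (Spec (CommRingCat.of R))) : R →+* Γ(X.left, ⊤) :=
  ((Scheme.ΓSpecIso (CommRingCat.of R)).inv ≫ X.hom.appTop).hom

theorem toSpecΓ_str (X : Over (Spec (CommRingCat.of R))) :
    X.left.toSpecΓ ≫ Spec.map (CommRingCat.ofHom (strΓ X)) = X.hom := by
  show X.left.toSpecΓ ≫ Spec.map ((Scheme.ΓSpecIso (CommRingCat.of R)).inv ≫ X.hom.appTop) = X.hom
  rw [Spec.map_comp, ← Scheme.toSpecΓ_naturality_assoc, toSpecΓ_SpecMap_ΓSpecIso_inv]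
  exact Category.comp_id _

/-- A point of a quasi-affine scheme over an affine base from functions, if it lands inside. -/
theorem exists_point (X : Over (Spec (CommRingCat.of R))) [X.left.IsQuasiAffine] {B : Type u} [CommRing B]
    [Algebra R B] (γ : Γ(X.left, ⊤) →+* B) (hγ : γ.comp (strΓ X) = algebraMap R B)
    (hr : Set.range (Spec.map (CommRingCat.ofHom γ)) ⊆ Set.range X.left.toSpecΓ) :
    ∃ x : specOver R B ⟶ X, x.left ≫ X.left.toSpecΓ = Spec.map (CommRingCat.ofHom γ) := by
  refine ⟨Over.homMk (IsOpenImmersion.lift X.left.toSpecΓ _ hr) ?_, IsOpenImmersion.lift_fac _ _ _⟩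
  show _ ≫ X.hom = Spec.map (CommRingCat.ofHom (algebraMap R B))
  rw [← toSpecΓ_str X, IsOpenImmersion.lift_fac_assoc, ← Spec.map_comp, ← CommRingCat.ofHom_comp, hγ]

/-- The functions pulled back along an affine point. -/
def pull {X : Over (Spec (CommRingCat.of R))} {B : Type u} [CommRing B] [Algebra R B] (x : specOver R B ⟶ X) :
    Γ(X.left, ⊤) →+* B :=
  (x.left.appTop ≫ (Scheme.ΓSpecIso (CommRingCat.of B)).hom).hom

theorem comp_toSpecΓ {X : Over (Spec (CommRingCat.of R))} {B : Type u} [CommRing B] [Algebra R B]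
    (x : specOver R B ⟶ X) : x.left ≫ X.left.toSpecΓ = Spec.map (CommRingCat.ofHom (pull x)) := by
  show x.left ≫ X.left.toSpecΓ = Spec.map (x.left.appTop ≫ (Scheme.ΓSpecIso (CommRingCat.of B)).hom)
  rw [Spec.map_comp, Scheme.toSpecΓ_naturality]
  congr 1
  exact (SpecMap_ΓSpecIso_hom (CommRingCat.of B)).symm

theorem pull_comp {X : Over (Spec (CommRingCat.of R))} {B B' : Type u} [CommRing B] [Algebra R B] [CommRing B']
    [Algebra R B'] (x : specOver R B ⟶ X) (φ : B →ₐ[R] B') : pull (specMap φ ≫ x) = φ.toRingHom.comp (pull x) := by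
  have h := comp_toSpecΓ (specMap φ ≫ x)
  rw [Over.comp_left, Category.assoc, comp_toSpecΓ x, specMap_left, ← Spec.map_comp] at h
  exact (congrArg CommRingCat.Hom.hom (Spec.map_injective h)).symm

theorem pull_str {X : Over (Spec (CommRingCat.of R))} {B : Type u} [CommRing B] [Algebra R B]
    (x : specOver R B ⟶ X) : (pull x).comp (strΓ X) = algebraMap R B := by
  have h : x.left ≫ X.hom = Spec.map (CommRingCat.ofHom (algebraMap R B)) := Over.w x
  rw [← toSpecΓ_str X, ← Category.assoc, comp_toSpecΓ, ← Spec.map_comp] at h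
  exact congrArg CommRingCat.Hom.hom (Spec.map_injective h)

theorem point_ext {X : Over (Spec (CommRingCat.of R))} [X.left.IsQuasiAffine] {B : Type u} [CommRing B] [Algebra R B]
    {x x' : specOver R B ⟶ X} (h : pull x = pull x') : x = x' := by
  ext1
  rw [← cancel_mono X.left.toSpecΓ, comp_toSpecΓ, comp_toSpecΓ, h]

theorem mem_basicOpen_iff {X : Over (Spec (CommRingCat.of R))} {B : Type u} [CommRing B] [Algebra R B]
    (x : specOver R B ⟶ X) (r : Γ(X.left, ⊤)) (P : PrimeSpectrum B) :
    x.left P ∈ X.left.basicOpen r ↔ pull x r ∉ P.asIdeal := by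
  rw [← X.left.toSpecΓ_preimage_basicOpen r]
  show (X.left.toSpecΓ (x.left P)) ∈ PrimeSpectrum.basicOpen r ↔ _
  rw [← Scheme.Hom.comp_apply, comp_toSpecΓ]
  rfl

/-- Finitely many functions with affine non-vanishing loci covering a quasi-affine scheme. -/
theorem exists_finite_cover (X : Scheme.{u}) [X.IsQuasiAffine] :
    ∃ (n : ℕ) (g : Fin n → Γ(X, ⊤)), (∀ i, IsAffineOpen (X.basicOpen (g i))) ∧ ∀ x : X, ∃ i, x ∈ X.basicOpen (g i) := by
  classical
  have h : ∀ x : X, ∃ r : Γ(X, ⊤), IsAffineOpen (X.basicOpen r) ∧ x ∈ X.basicOpen r := by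
    intro x
    obtain ⟨_, ⟨_, ⟨r, hr, rfl⟩, rfl⟩, hxr, -⟩ :=
      (Scheme.IsQuasiAffine.isBasis_basicOpen X).exists_subset_of_mem_open (Set.mem_univ x) isOpen_univ
    exact ⟨r, hr, hxr⟩
  choose r hr hxr using h
  obtain ⟨t, ht⟩ := isCompact_univ.elim_finite_subcover (fun x : X => (X.basicOpen (r x) : Set X))
    (fun x => (X.basicOpen (r x)).isOpen) (fun x _ => Set.mem_iUnion.2 ⟨x, hxr x⟩)
  refine ⟨t.card, fun i => r (t.equivFin.symm i), fun i => hr _, fun x => ?_⟩
  obtain ⟨y, hy, hxy⟩ := Set.mem_iUnion₂.1 (ht (Set.mem_univ x))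
  refine ⟨t.equivFin ⟨y, hy⟩, ?_⟩
  show x ∈ X.basicOpen (r (t.equivFin.symm (t.equivFin ⟨y, hy⟩) : t))
  rw [Equiv.symm_apply_apply]
  exact hxy

section Torsor

variable (A : Type u) [CommRing A] {n : ℕ} (g : Fin n → A)

/-- The relation `Σ eᵢ gᵢ = 1`. -/
def rel : MvPolynomial (Option (Fin n)) A := ∑ i, MvPolynomial.X (some i) * MvPolynomial.C (g i) - 1

/-- Coordinates of the torsor of unimodular rows, times a line. -/
abbrev Torsor : Type u := MvPolynomial (Option (Fin n)) A ⧸ Ideal.span {rel A g}

theorem torsor_hom_exists {B : Type u} [CommRing B] (φ : A →+* B) (e : Option (Fin n) → B)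
    (he : ∑ i, e (some i) * φ (g i) = 1) :
    ∃ π : Torsor A g →+* B, π.comp (algebraMap A (Torsor A g)) = φ ∧
      ∀ i, π (Ideal.Quotient.mk _ (MvPolynomial.X i)) = e i := by
  refine ⟨Ideal.Quotient.lift _ (MvPolynomial.eval₂Hom φ e) fun p hp => ?_, RingHom.ext fun a => ?_, fun i => ?_⟩
  · obtain ⟨q, rfl⟩ := Ideal.mem_span_singleton'.1 hp
    rw [map_mul, rel, map_sub, map_sum, map_one]
    simp [he]
  · exact MvPolynomial.eval₂Hom_C φ e a
  · exact MvPolynomial.eval₂Hom_X' φ e i

theorem torsor_hom_ext {B : Type u} [CommRing B] {π π' : Torsor A g →+* B}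
    (h : π.comp (algebraMap A (Torsor A g)) = π'.comp (algebraMap A (Torsor A g)))
    (h' : ∀ i, π (Ideal.Quotient.mk _ (MvPolynomial.X i)) = π' (Ideal.Quotient.mk _ (MvPolynomial.X i))) : π = π' :=
  Ideal.Quotient.ringHom_ext (MvPolynomial.ringHom_ext (fun a => RingHom.congr_fun h a) h')

theorem torsor_sum : ∑ i, (Ideal.Quotient.mk (Ideal.span {rel A g}) (MvPolynomial.X (some i))) *
    algebraMap A (Torsor A g) (g i) = 1 := by
  have h : Ideal.Quotient.mk (Ideal.span {rel A g}) (rel A g) = 0 :=
    Ideal.Quotient.eq_zero_iff_mem.2 (Ideal.mem_span_singleton_self _)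
  rw [rel, map_sub, map_sum, map_one, sub_eq_zero] at h
  rw [← h]
  simp only [map_mul]
  rfl

instance : Algebra.FinitePresentation A (Torsor A g) := Algebra.FinitePresentation.quotient ⟨{rel A g}, by simp⟩

theorem formallySmooth_torsor : Algebra.FormallySmooth A (Torsor A g) := by
  refine Algebra.FormallySmooth.iff_comp_surjective.2 fun B _ _ I hI φ => ?_
  choose e he using fun i => Ideal.Quotient.mk_surjective (φ (Ideal.Quotient.mk _ (MvPolynomial.X i)))
  let ε := ∑ i, e (some i) * algebraMap A B (g i)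
  have hε : ε - 1 ∈ I := by
    rw [← Ideal.Quotient.eq_zero_iff_mem, map_sub, map_one, sub_eq_zero]
    rw [← map_one φ, ← torsor_sum A g, map_sum, map_sum]
    refine Finset.sum_congr rfl fun i _ => ?_
    rw [map_mul, map_mul, he, AlgHom.commutes]
    rfl
  have hu : IsUnit ε := by
    have : IsNilpotent (ε - 1) := ⟨2, by
      have := Ideal.pow_mem_pow hε 2
      rwa [hI, Ideal.mem_bot] at this⟩
    simpa using this.isUnit_add_one
  obtain ⟨v, hv⟩ := hu.exists_left_inv
  let e' : Option (Fin n) → B := fun i => Option.elim i (e none) fun j => v * e (some j)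
  obtain ⟨π, hπ, hπ'⟩ := torsor_hom_exists A g (algebraMap A B) e' (by
    simp only [e', Option.elim, mul_assoc, ← Finset.mul_sum]
    exact hv)
  refine ⟨{ π with commutes' := fun a => RingHom.congr_fun hπ a }, ?_⟩
  have hv1 : Ideal.Quotient.mk I v = 1 := by
    have h1 : Ideal.Quotient.mk I ε = 1 := by
      rw [← map_one (Ideal.Quotient.mk I), Ideal.Quotient.eq]; exact hε
    have := congrArg (Ideal.Quotient.mk I) hv
    rwa [map_mul, h1, mul_one, map_one] at this
  apply AlgHom.coe_ringHom_injective
  refine torsor_hom_ext A g (RingHom.ext fun a => ?_) fun i => ?_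
  · show Ideal.Quotient.mk I (π (algebraMap A (Torsor A g) a)) = φ (algebraMap A (Torsor A g) a)
    rw [show π (algebraMap A (Torsor A g) a) = algebraMap A B a from RingHom.congr_fun hπ a, AlgHom.commutes]
    rfl
  · show Ideal.Quotient.mk I (π (Ideal.Quotient.mk _ (MvPolynomial.X i))) = φ (Ideal.Quotient.mk _ (MvPolynomial.X i))
    rw [hπ']
    cases i with
    | none => exact he none
    | some j =>
      show Ideal.Quotient.mk I (v * e (some j)) = _
      rw [map_mul, hv1, one_mul, he]

instance : Module.Flat A (Torsor A g) := by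
  haveI := formallySmooth_torsor A g
  haveI : Algebra.Smooth A (Torsor A g) := ⟨inferInstance, inferInstance⟩
  infer_instance

end Torsor

/-- A quasi-affine scheme has an affine flat finitely presented surjective cover which is an affine
space over each affine point. -/
theorem exists_affine_cover (V : Over (Spec (CommRingCat.of R))) [V.left.IsQuasiAffine] :
    ∃ (P : Type u) (_ : CommRing P) (_ : Algebra R P) (p : specOver R P ⟶ V) (n : ℕ),
      Flat p.left ∧ LocallyOfFinitePresentation p.left ∧
      ∀ (L : Type u) [CommRing L] [Algebra R L] (x : specOver R L ⟶ V),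
        ∃ φ : P →ₐ[R] MvPolynomial (Fin n) L,
          specMap φ ≫ p = specMap (IsScalarTower.toAlgHom R L (MvPolynomial (Fin n) L)) ≫ x ∧
          ∀ (B : Type u) [CommRing B] [Algebra R B] (α : L →ₐ[R] B) (π : P →ₐ[R] B),
            specMap π ≫ p = specMap α ≫ x → ∃! ψ : MvPolynomial (Fin n) L →ₐ[R] B,
              ψ.comp (IsScalarTower.toAlgHom R L (MvPolynomial (Fin n) L)) = α ∧ ψ.comp φ = π := by
  classical
  obtain ⟨n, g, hgaff, hgcov⟩ := exists_finite_cover V.left
  letI : Algebra R Γ(V.left, ⊤) := (strΓ V).toAlgebra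
  let A := Γ(V.left, ⊤)
  let P := Torsor A g
  let γ : A →+* P := algebraMap A P
  have hrange : Set.range (Spec.map (CommRingCat.ofHom γ)) ⊆ Set.range V.left.toSpecΓ := by
    rintro _ ⟨q, rfl⟩
    obtain ⟨i, hi⟩ : ∃ i, γ (g i) ∉ (q : PrimeSpectrum P).asIdeal := by
      by_contra hne
      push_neg at hne
      exact (q : PrimeSpectrum P).isPrime.ne_top ((Ideal.eq_top_iff_one _).2 (by
        rw [← torsor_sum A g]
        exact Ideal.sum_mem _ fun i _ => Ideal.mul_mem_left _ _ (hne i)))
    haveI := hgaff i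
    have h1 : PrimeSpectrum.basicOpen (g i) ≤ V.left.toSpecΓ.opensRange := by
      intro s hs
      let U := V.left.basicOpen (g i)
      haveI := isLocalization_basicOpen_of_qcqs (X := V.left) isCompact_univ isQuasiSeparated_univ (g i)
      obtain ⟨s', hs'⟩ : s ∈ Set.range (PrimeSpectrum.comap (algebraMap A Γ(V.left, U))) := by
        rw [PrimeSpectrum.localization_away_comap_range Γ(V.left, U) (g i)]
        exact hs
      obtain ⟨w, hw⟩ : ∃ w, U.toSpecΓ w = s' := by
        haveI : IsAffine U.toScheme := hgaff i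
        exact ⟨(hgaff i).isoSpec.inv s', by
          rw [← IsAffineOpen.isoSpec_hom (hgaff i), ← Scheme.Hom.comp_apply, Iso.inv_hom_id]; rfl⟩
      refine ⟨U.ι w, ?_⟩
      rw [← hs', ← hw, ← Scheme.Hom.comp_apply]
      exact (congrArg (fun m => m w) (Scheme.Opens.toSpecΓ_SpecMap_presheaf_map_top U)).symm
    exact h1 hi
  obtain ⟨p, hp⟩ := exists_point V (B := P) γ (IsScalarTower.algebraMap_eq R A P).symm hrange
  have hflat : Flat (Spec.map (CommRingCat.ofHom γ)) :=
    (HasRingHomProperty.Spec_iff (P := @Flat)).2 (RingHom.flat_algebraMap_iff.2 inferInstance)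
  have hlfp : LocallyOfFinitePresentation (Spec.map (CommRingCat.ofHom γ)) :=
    (HasRingHomProperty.Spec_iff (P := @LocallyOfFinitePresentation)).2
      (RingHom.finitePresentation_algebraMap.2 inferInstance)
  have hsq : IsPullback p.left (𝟙 _) V.left.toSpecΓ (Spec.map (CommRingCat.ofHom γ)) :=
    IsPullback.of_isLimit' ⟨by rw [Category.id_comp, hp]⟩ (PullbackCone.IsLimit.mk _ (fun c => c.snd)
      (fun c => by rw [← cancel_mono V.left.toSpecΓ, Category.assoc, hp, c.condition])
      (fun c => Category.comp_id _) (fun c m _ h2 => by simpa using h2))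
  refine ⟨P, inferInstance, inferInstance, p, n, MorphismProperty.of_isPullback (P := @Flat) hsq.flip hflat,
    MorphismProperty.of_isPullback (P := @LocallyOfFinitePresentation) hsq.flip hlfp, fun L _ _ x => ?_⟩
  have hpull : pull p = γ := by
    have := comp_toSpecΓ p
    rw [hp] at this
    exact (congrArg CommRingCat.Hom.hom (Spec.map_injective this)).symm
  have hgL : Ideal.span (Set.range fun i => pull x (g i)) = ⊤ := by
    by_contra hne
    obtain ⟨m, hm, hle⟩ := Ideal.exists_le_maximal _ hne
    obtain ⟨i, hi⟩ := hgcov (x.left (⟨m, hm.isPrime⟩ : PrimeSpectrum L))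
    exact (mem_basicOpen_iff x _ _).1 hi (hle (Ideal.subset_span ⟨i, rfl⟩))
  obtain ⟨e0, he0⟩ := Finsupp.mem_span_range_iff_exists_finsupp.1 ((Ideal.eq_top_iff_one _).1 hgL)
  have he0' : ∑ i, e0 i * pull x (g i) = 1 := by
    rw [← he0, Finsupp.sum_fintype]
    · rfl
    · exact fun i => zero_mul _
  let LZ := MvPolynomial (Fin n) L
  let C' : L →ₐ[R] LZ := IsScalarTower.toAlgHom R L LZ
  let w : LZ := ∑ j, C' (pull x (g j)) * MvPolynomial.X j
  let e' : Option (Fin n) → LZ := fun i => Option.elim i w fun j => MvPolynomial.X j + C' (e0 j) - w * C' (e0 j)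
  obtain ⟨φ, hφ, hφ'⟩ := torsor_hom_exists A g (C'.toRingHom.comp (pull x)) e' (by
    simp only [e', Option.elim, RingHom.comp_apply, AlgHom.toRingHom_eq_coe, RingHom.coe_coe, add_mul, sub_mul,
      Finset.sum_add_distrib, Finset.sum_sub_distrib, mul_assoc, ← Finset.mul_sum, ← map_mul, ← map_sum, he0',
      map_one, mul_one]
    rw [show ∑ i, MvPolynomial.X i * C' (pull x (g i)) = w from Finset.sum_congr rfl fun i _ => mul_comm _ _]
    erw [he0']
    rw [map_one]
    ring)
  let φA : P →ₐ[R] LZ :=
    { φ with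
      commutes' := fun r => by
        show φ (algebraMap A P (algebraMap R A r)) = _
        rw [show φ (algebraMap A P (algebraMap R A r)) = C' (pull x (strΓ V r)) from RingHom.congr_fun hφ _,
          show pull x (strΓ V r) = algebraMap R L r from RingHom.congr_fun (pull_str x) r, AlgHom.commutes] }
  refine ⟨φA, point_ext ?_, fun B _ _ α π hπ => ?_⟩
  · rw [pull_comp, pull_comp, hpull]
    exact hφ
  have hπ' : π.toRingHom.comp γ = α.toRingHom.comp (pull x) := by
    rw [← hpull, ← pull_comp, ← pull_comp, hπ]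
  let E : Option (Fin n) → B := fun i => π (Ideal.Quotient.mk _ (MvPolynomial.X i))
  let z : Fin n → B := fun i => E (some i) - α (e0 i) + E none * α (e0 i)
  have hsum : ∑ i, α (pull x (g i)) * z i = E none := by
    have h1 : ∑ i, E (some i) * α (pull x (g i)) = 1 := by
      rw [← map_one π, ← torsor_sum A g, map_sum]
      refine Finset.sum_congr rfl fun i _ => ?_
      rw [map_mul]
      congr 1
      exact (RingHom.congr_fun hπ' (g i)).symm
    have h2 : ∑ i, α (e0 i) * α (pull x (g i)) = 1 := by
      rw [← map_one α, ← he0', map_sum]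
      simp only [map_mul]
    calc ∑ i, α (pull x (g i)) * z i
        = ∑ i, E (some i) * α (pull x (g i)) - ∑ i, α (e0 i) * α (pull x (g i))
            + E none * ∑ i, α (e0 i) * α (pull x (g i)) := by
          rw [Finset.mul_sum, ← Finset.sum_sub_distrib, ← Finset.sum_add_distrib]
          exact Finset.sum_congr rfl fun i _ => by simp only [z]; ring
      _ = E none := by rw [h1, h2]; ring
  let ψ : LZ →ₐ[R] B :=
    { MvPolynomial.eval₂Hom α.toRingHom z with
      commutes' := fun r => by
        show MvPolynomial.eval₂Hom α.toRingHom z (algebraMap R LZ r) = _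
        rw [IsScalarTower.algebraMap_apply R L LZ, MvPolynomial.algebraMap_eq, MvPolynomial.eval₂Hom_C]
        exact α.commutes r }
  have hψC : ∀ l, ψ (C' l) = α l := fun l => MvPolynomial.eval₂Hom_C α.toRingHom z l
  have hψX : ∀ i, ψ (MvPolynomial.X i) = z i := fun i => MvPolynomial.eval₂Hom_X' α.toRingHom z i
  have hψw : ψ w = E none := by simp only [w, map_sum, map_mul, hψC, hψX, hsum]
  refine ⟨ψ, ⟨AlgHom.ext hψC, ?_⟩, ?_⟩
  · apply AlgHom.coe_ringHom_injective
    refine torsor_hom_ext A g (RingHom.ext fun a => ?_) fun i => ?_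
    · show ψ (φ (algebraMap A P a)) = π (γ a)
      rw [show φ (algebraMap A P a) = C' (pull x a) from RingHom.congr_fun hφ a, hψC]
      exact (RingHom.congr_fun hπ' a).symm
    · show ψ (φ _) = π _
      rw [hφ']
      cases i with
      | none => exact hψw
      | some j =>
        simp only [e', Option.elim, map_sub, map_add, map_mul, hψw, hψC, hψX, z]
        show _ = E (some j)
        ring
  · rintro χ ⟨hχC, hχφ⟩
    have hc : ∀ l, χ (C' l) = α l := fun l => AlgHom.congr_fun hχC l
    have hE : ∀ i, χ (e' i) = E i := fun i => by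
      rw [← hφ' i]
      exact AlgHom.congr_fun hχφ _
    apply AlgHom.coe_ringHom_injective
    refine MvPolynomial.ringHom_ext (fun l => ?_) fun i => ?_
    · exact (hc l).trans (hψC l).symm
    · have h1 := hE (some i)
      have h0 : χ w = E none := hE none
      simp only [e', Option.elim, map_sub, map_add, map_mul, h0, hc] at h1
      show χ (MvPolynomial.X i) = ψ (MvPolynomial.X i)
      rw [hψX]
      simp only [z, ← h1]
      ring

end Groth.Agent.QAGlueLib

end
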