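import Groth.Agent.GlueEqLib.Chart

/-! Triples of schemes over the three pieces of a glueing pair, through their affine points. -/

set_option autoImplicit false
set_option linter.style.haveILetI false
set_option backward.isDefEq.respectTransparency false
set_option backward.isDefEq.respectTransparency.types false
set_option maxHeartbeats 800000

universe u

open CategoryTheory CategoryTheory.Limits AlgebraicGeometry TensorProduct

noncomputable section

namespace Groth.Agent.QAGlueLib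

open _root_.AlgSp Groth.Agent.AlgSpGlue Groth.Agent.GlueEqLib

/-- Schemes over `Spec R_f` and `Spec R'` identified over `Spec R'_f`. -/
structure Data (R R' : Type u) [CommRing R] [CommRing R'] [Algebra R R'] (f : R) where
  V : Over (Spec (CommRingCat.of R))
  Y' : Over (Spec (CommRingCat.of R))
  v : V ⟶ specOver R (Localization.Away f)
  y' : Y' ⟶ specOver R R'
  qaV : V.left.IsQuasiAffine
  qaY : Y'.left.IsQuasiAffine
  Rel : ∀ {B : Type u} [CommRing B] [Algebra R B], (specOver R B ⟶ V) → (specOver R B ⟶ Y') → Prop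
  rel_comp : ∀ {B B' : Type u} [CommRing B] [Algebra R B] [CommRing B'] [Algebra R B']
    (s : specOver R B' ⟶ specOver R B) {x : specOver R B ⟶ V} {y : specOver R B ⟶ Y'}, Rel x y → Rel (s ≫ x) (s ≫ y)
  exV : ∀ {B : Type u} [CommRing B] [Algebra R B], IsUnit (algebraMap R B f) →
    ∀ y : specOver R B ⟶ Y', ∃! x, Rel x y
  exY : ∀ {B : Type u} [CommRing B] [Algebra R B] (x : specOver R B ⟶ V) (θ : R' →ₐ[R] B),
    ∃! y, Rel x y ∧ y ≫ y' = specMap θ

variable {R R' : Type u} [CommRing R] [CommRing R'] [Algebra R R'] {f : R}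

namespace Data

variable (d : Data R R' f) {B B' : Type u} [CommRing B] [Algebra R B] [CommRing B'] [Algebra R B']

theorem isUnit_of_V (x : specOver R B ⟶ d.V) : IsUnit (algebraMap R B f) := by
  obtain ⟨σ, -⟩ := specMap_surjective (x ≫ d.v)
  rw [← σ.commutes]
  exact (IsLocalization.Away.algebraMap_isUnit f).map σ

/-- The `V`-point of a `Y'`-point on which `f` is invertible. -/
def toV (y : specOver R B ⟶ d.Y') (h : IsUnit (algebraMap R B f)) : specOver R B ⟶ d.V := (d.exV h y).exists.choose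

theorem rel_toV (y : specOver R B ⟶ d.Y') (h : IsUnit (algebraMap R B f)) : d.Rel (d.toV y h) y :=
  (d.exV h y).exists.choose_spec

theorem eq_toV {x : specOver R B ⟶ d.V} {y : specOver R B ⟶ d.Y'} (hr : d.Rel x y) :
    x = d.toV y (d.isUnit_of_V x) := (d.exV (d.isUnit_of_V x) y).unique hr (d.rel_toV y _)

theorem rel_left_unique {x x' : specOver R B ⟶ d.V} {y : specOver R B ⟶ d.Y'} (h : d.Rel x y) (h' : d.Rel x' y) :
    x = x' := (d.exV (d.isUnit_of_V x) y).unique h h'

/-- The `Y'`-point of a `V`-point with a structure of `R'`-algebra. -/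
def toY (x : specOver R B ⟶ d.V) (θ : R' →ₐ[R] B) : specOver R B ⟶ d.Y' := (d.exY x θ).exists.choose

theorem rel_toY (x : specOver R B ⟶ d.V) (θ : R' →ₐ[R] B) : d.Rel x (d.toY x θ) :=
  (d.exY x θ).exists.choose_spec.1

theorem toY_y' (x : specOver R B ⟶ d.V) (θ : R' →ₐ[R] B) : d.toY x θ ≫ d.y' = specMap θ :=
  (d.exY x θ).exists.choose_spec.2

theorem rel_right_unique {x : specOver R B ⟶ d.V} {y y₂ : specOver R B ⟶ d.Y'} (h : d.Rel x y) (h₂ : d.Rel x y₂)
    (e : y ≫ d.y' = y₂ ≫ d.y') : y = y₂ := by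
  obtain ⟨θ, hθ⟩ := specMap_surjective (y ≫ d.y')
  exact (d.exY x θ).unique ⟨h, hθ.symm⟩ ⟨h₂, (hθ.trans e).symm⟩

theorem comp_toY (x : specOver R B ⟶ d.V) (θ : R' →ₐ[R] B) (φ : B →ₐ[R] B') :
    specMap φ ≫ d.toY x θ = d.toY (specMap φ ≫ x) (φ.comp θ) :=
  d.rel_right_unique (d.rel_comp _ (d.rel_toY x θ)) (d.rel_toY _ _)
    (by rw [Category.assoc, toY_y', toY_y', specMap_comp])

end Data

/-- The triple of a cartesian diagram. -/
def dataOfCartesian {XU' V V' Y' : Over (Spec (CommRingCat.of R))}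
    (tU : specOver R (Localization.Away f) ⟶ Over.mk (𝟙 _)) (tX : specOver R R' ⟶ Over.mk (𝟙 _))
    (iU : XU' ⟶ specOver R (Localization.Away f)) (iX : XU' ⟶ specOver R R') (hU' : IsPullback iU iX tU tX)
    (v : V ⟶ specOver R (Localization.Away f)) (y' : Y' ⟶ specOver R R') (q : V' ⟶ XU') (pV : V' ⟶ V) (pY : V' ⟶ Y')
    (hV'V : IsPullback pV q v iU) (hV'Y : IsPullback pY q y' iX) [hqV : V.left.IsQuasiAffine]
    [hqY : Y'.left.IsQuasiAffine] : Data R R' f where
  V := V
  Y' := Y'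
  v := v
  y' := y'
  qaV := hqV
  qaY := hqY
  Rel x y := ∃ z, z ≫ pV = x ∧ z ≫ pY = y
  rel_comp := by
    rintro B B' _ _ _ _ s x y ⟨z, rfl, rfl⟩
    exact ⟨s ≫ z, Category.assoc _ _ _, Category.assoc _ _ _⟩
  exV := by
    intro B _ _ h y
    have hu : ∀ a b : specOver R B ⟶ specOver R (Localization.Away f), a = b := fun a b => by
      obtain ⟨a, rfl⟩ := specMap_surjective a
      obtain ⟨b, rfl⟩ := specMap_surjective b
      congr 1
      exact IsLocalization.algHom_ext (Submonoid.powers f) (Subsingleton.elim _ _)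
    let σ : Localization.Away f →ₐ[R] B := IsLocalization.liftAlgHom (M := Submonoid.powers f)
      (f := Algebra.ofId R B) (by
        rintro ⟨_, n, rfl⟩
        show IsUnit (algebraMap R B (f ^ n))
        rw [map_pow]
        exact h.pow n)
    let u := hU'.lift (specMap σ) (y ≫ y') (Over.mkIdTerminal.hom_ext _ _)
    let z := hV'Y.lift y u (by rw [hU'.lift_snd])
    refine ⟨z ≫ pV, ⟨z, rfl, hV'Y.lift_fst _ _ _⟩, ?_⟩
    rintro x ⟨z', rfl, hz'⟩
    congr 1
    refine hV'Y.hom_ext (hz'.trans (hV'Y.lift_fst _ _ _).symm) ?_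
    rw [hV'Y.lift_snd]
    refine hU'.hom_ext (hu _ _) ?_
    rw [hU'.lift_snd, Category.assoc, ← hV'Y.w, ← Category.assoc, hz']
  exY := by
    intro B _ _ x θ
    let u := hU'.lift (x ≫ v) (specMap θ) (Over.mkIdTerminal.hom_ext _ _)
    let z := hV'V.lift x u (by rw [hU'.lift_fst])
    refine ⟨z ≫ pY, ⟨⟨z, hV'V.lift_fst _ _ _, rfl⟩, ?_⟩, ?_⟩
    · rw [Category.assoc, hV'Y.w, ← Category.assoc, hV'V.lift_snd, hU'.lift_snd]
    · rintro y ⟨⟨z', hz', rfl⟩, hy⟩
      congr 1
      refine hV'V.hom_ext (hz'.trans (hV'V.lift_fst _ _ _).symm) ?_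
      rw [hV'V.lift_snd]
      refine hU'.hom_ext ?_ ?_
      · rw [hU'.lift_fst, Category.assoc, ← hV'V.w, ← Category.assoc, hz']
      · rw [hU'.lift_snd, Category.assoc, ← hV'Y.w, ← hy, Category.assoc]

end Groth.Agent.QAGlueLib

end
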