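import Groth.Agent.QAGlueLib.Chart

/-! The product of two charts. -/

set_option autoImplicit false
set_option linter.style.haveILetI false
set_option backward.isDefEq.respectTransparency false
set_option backward.isDefEq.respectTransparency.types false
set_option maxHeartbeats 1600000

universe u

open CategoryTheory CategoryTheory.Limits AlgebraicGeometry TensorProduct

noncomputable section

namespace Groth.Agent.QAGlueLib

open _root_.AlgSp Groth.Agent.AlgSpGlue Groth.Agent.GlueEqLib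

variable {R : Type u} [CommRing R]

section Pair

variable {A A₁ A₂ : Type u} [CommRing A] [Algebra R A] [CommRing A₁] [Algebra R A₁] [CommRing A₂] [Algebra R A₂]
  {π₁ : A →ₐ[R] A₁} {π₂ : A →ₐ[R] A₂}

/-- A ring split in two. -/
def IsSplit (π₁ : A →ₐ[R] A₁) (π₂ : A →ₐ[R] A₂) : Prop := Function.Bijective (π₁.prod π₂)

theorem IsSplit.eq (h : IsSplit π₁ π₂) {a b : A} (h₁ : π₁ a = π₁ b) (h₂ : π₂ a = π₂ b) : a = b :=
  h.1 (Prod.ext h₁ h₂)

theorem IsSplit.exists_idem (h : IsSplit π₁ π₂) : ∃ u : A, π₁ u = 1 ∧ π₂ u = 0 := by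
  obtain ⟨u, hu⟩ := h.2 (1, 0)
  exact ⟨u, congrArg Prod.fst hu, congrArg Prod.snd hu⟩

theorem IsSplit.swap (h : IsSplit π₁ π₂) : IsSplit π₂ π₁ := by
  have e : (π₂.prod π₁ : A → A₂ × A₁) = Prod.swap ∘ (π₁.prod π₂) := rfl
  rw [IsSplit, e]
  exact Prod.swap_bijective.comp h

theorem IsSplit.surj (h : IsSplit π₁ π₂) : Function.Surjective π₁ := fun a => by
  obtain ⟨x, hx⟩ := h.2 (a, 0)
  exact ⟨x, congrArg Prod.fst hx⟩

/-- A map killing the second factor factors through the first. -/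
theorem IsSplit.exists_factor (h : IsSplit π₁ π₂) {C : Type u} [CommRing C] [Algebra R C] (ω : A →ₐ[R] C) {u : A}
    (hu₂ : π₂ u = 0) (hω : ω u = 1) : ∃ ω₁ : A₁ →ₐ[R] C, ω₁.comp π₁ = ω := by
  refine ⟨AlgHom.liftOfSurjective π₁ h.surj ω fun a ha => ?_, AlgHom.liftOfSurjective_comp _ _ _ _⟩
  have ha' : π₁ a = 0 := ha
  have h0 : a * u = 0 := h.eq (by rw [map_mul, ha', zero_mul, map_zero]) (by rw [map_mul, hu₂, mul_zero, map_zero])
  show ω a = 0
  rw [← mul_one (ω a), ← hω, ← map_mul, h0, map_zero]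

theorem IsSplit.open_imm (h : IsSplit π₁ π₂) {u : A} (hu₁ : π₁ u = 1) (hu₂ : π₂ u = 0) :
    IsOpenImmersion (specMap π₁).left ∧
      Set.range (specMap π₁).left = ((PrimeSpectrum.basicOpen u : TopologicalSpace.Opens (PrimeSpectrum A)) : Set (PrimeSpectrum A)) := by
  refine isOpenImmersion_of_away π₁ u ?_
  letI := π₁.toRingHom.toAlgebra
  constructor; constructor
  · rintro ⟨_, k, rfl⟩
    show IsUnit (π₁ (u ^ k))
    rw [map_pow, hu₁, one_pow]
    exact isUnit_one
  · intro z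
    obtain ⟨a, rfl⟩ := h.surj z
    exact ⟨⟨a, 1, one_mem _⟩, by show π₁ a * π₁ 1 = π₁ a; rw [map_one, mul_one]⟩
  · intro a b hab
    have hab' : π₁ a = π₁ b := hab
    exact ⟨⟨u, 1, pow_one u⟩, h.eq (by rw [map_mul, map_mul, hab']) (by rw [map_mul, map_mul, hu₂, zero_mul, zero_mul])⟩

/-- Two points of a quasi-affine scheme combine. -/
theorem IsSplit.exists_point (h : IsSplit π₁ π₂) {X : Over (Spec (CommRingCat.of R))} [X.left.IsQuasiAffine]
    (z₁ : specOver R A₁ ⟶ X) (z₂ : specOver R A₂ ⟶ X) :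
    ∃ z : specOver R A ⟶ X, specMap π₁ ≫ z = z₁ ∧ specMap π₂ ≫ z = z₂ ∧
      (Flat z₁.left → Flat z₂.left → Flat z.left) ∧
      (LocallyOfFinitePresentation z₁.left → LocallyOfFinitePresentation z₂.left →
        LocallyOfFinitePresentation z.left) := by
  obtain ⟨u, hu₁, hu₂⟩ := h.exists_idem
  obtain ⟨hi₁, hr₁⟩ := h.open_imm hu₁ hu₂
  obtain ⟨hi₂, hr₂⟩ := h.swap.open_imm (u := 1 - u) (by rw [map_sub, map_one, hu₂, sub_zero])
    (by rw [map_sub, map_one, hu₁, sub_self])
  let e : A ≃ₐ[R] A₁ × A₂ := AlgEquiv.ofBijective (π₁.prod π₂) h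
  let γ : Γ(X.left, ⊤) →+* A := e.symm.toRingEquiv.toRingHom.comp ((pull z₁).prod (pull z₂))
  have hγ₁ : π₁.toRingHom.comp γ = pull z₁ := RingHom.ext fun r =>
    congrArg Prod.fst (e.apply_symm_apply (pull z₁ r, pull z₂ r))
  have hγ₂ : π₂.toRingHom.comp γ = pull z₂ := RingHom.ext fun r =>
    congrArg Prod.snd (e.apply_symm_apply (pull z₁ r, pull z₂ r))
  have hcov : ∀ Q : PrimeSpectrum A, Q ∈ Set.range (specMap π₁).left ∨ Q ∈ Set.range (specMap π₂).left := fun Q => by
    by_cases hQ : u ∈ Q.asIdeal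
    · refine Or.inr (hr₂.ge fun h' => Q.isPrime.ne_top ((Ideal.eq_top_iff_one _).2 ?_))
      rw [← sub_add_cancel (1 : A) u]
      exact Q.asIdeal.add_mem h' hQ
    · exact Or.inl (hr₁.ge hQ)
  have hγs : γ.comp (strΓ X) = algebraMap R A := RingHom.ext fun r => h.eq
    ((RingHom.congr_fun hγ₁ _).trans ((RingHom.congr_fun (pull_str z₁) r).trans (π₁.commutes r).symm))
    ((RingHom.congr_fun hγ₂ _).trans ((RingHom.congr_fun (pull_str z₂) r).trans (π₂.commutes r).symm))
  obtain ⟨z, hz⟩ := QAGlueLib.exists_point X γ hγs (by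
    rintro _ ⟨Q, rfl⟩
    rcases hcov Q with ⟨S, rfl⟩ | ⟨S, rfl⟩
    · refine ⟨z₁.left S, ?_⟩
      rw [← Scheme.Hom.comp_apply, comp_toSpecΓ, ← hγ₁]
      exact congrArg (fun m => m S) (Spec.map_comp (CommRingCat.ofHom γ) (CommRingCat.ofHom π₁.toRingHom))
    · refine ⟨z₂.left S, ?_⟩
      rw [← Scheme.Hom.comp_apply, comp_toSpecΓ, ← hγ₂]
      exact congrArg (fun m => m S) (Spec.map_comp (CommRingCat.ofHom γ) (CommRingCat.ofHom π₂.toRingHom)))
  have hp : pull z = γ := by
    have h' := comp_toSpecΓ z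
    rw [hz] at h'
    exact (congrArg CommRingCat.Hom.hom (Spec.map_injective h')).symm
  have e₁ : specMap π₁ ≫ z = z₁ := point_ext (by rw [pull_comp, hp, hγ₁])
  have e₂ : specMap π₂ ≫ z = z₂ := point_ext (by rw [pull_comp, hp, hγ₂])
  refine ⟨z, e₁, e₂, ?_, ?_⟩
  all_goals intro h₁ h₂
  all_goals
    let J : ∀ b : ULift.{u} Bool, (bif b.down then (specOver R A₁).left else (specOver R A₂).left) ⟶ (specOver R A).left :=
      fun ⟨b⟩ => match b with
        | true => (specMap π₁).left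
        | false => (specMap π₂).left
    haveI : ∀ b, IsOpenImmersion (J b) := by
      rintro ⟨_ | _⟩
      exacts [hi₂, hi₁]
    have hJ : ∀ Q, ∃ b, Q ∈ Set.range (J b) := fun Q => by
      rcases hcov Q with h' | h'
      exacts [⟨⟨true⟩, h'⟩, ⟨⟨false⟩, h'⟩]
  · refine prop_of_cover (P := @Flat) _ _ J hJ ?_
    rintro ⟨_ | _⟩
    · show Flat ((specMap π₂).left ≫ z.left)
      rw [← Over.comp_left, e₂]; exact h₂
    · show Flat ((specMap π₁).left ≫ z.left)
      rw [← Over.comp_left, e₁]; exact h₁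
  · refine prop_of_cover (P := @LocallyOfFinitePresentation) _ _ J hJ ?_
    rintro ⟨_ | _⟩
    · show LocallyOfFinitePresentation ((specMap π₂).left ≫ z.left)
      rw [← Over.comp_left, e₂]; exact h₂
    · show LocallyOfFinitePresentation ((specMap π₁).left ≫ z.left)
      rw [← Over.comp_left, e₁]; exact h₁

end Pair

/-- Localisation of a product. -/
theorem isSplit_loc {T₁ T₂ : Type u} [CommRing T₁] [Algebra R T₁] [CommRing T₂] [Algebra R T₂] (f : R) :
    ∃ (π₁ : Localization.Away (algebraMap R (T₁ × T₂) f) →ₐ[R] Localization.Away (algebraMap R T₁ f))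
      (π₂ : Localization.Away (algebraMap R (T₁ × T₂) f) →ₐ[R] Localization.Away (algebraMap R T₂ f)),
      IsSplit π₁ π₂ ∧
      π₁.comp (IsScalarTower.toAlgHom R (T₁ × T₂) _) = (IsScalarTower.toAlgHom R T₁ _).comp (AlgHom.fst R T₁ T₂) ∧
      π₂.comp (IsScalarTower.toAlgHom R (T₁ × T₂) _) = (IsScalarTower.toAlgHom R T₂ _).comp (AlgHom.snd R T₁ T₂) := by
  let L₁ := Localization.Away (algebraMap R T₁ f)
  let L₂ := Localization.Away (algebraMap R T₂ f)
  let g₁ : (T₁ × T₂) →ₐ[R] L₁ := (IsScalarTower.toAlgHom R T₁ L₁).comp (AlgHom.fst R T₁ T₂)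
  let g₂ : (T₁ × T₂) →ₐ[R] L₂ := (IsScalarTower.toAlgHom R T₂ L₂).comp (AlgHom.snd R T₁ T₂)
  let iL := IsScalarTower.toAlgHom R (T₁ × T₂) (Localization.Away (algebraMap R (T₁ × T₂) f))
  obtain ⟨π₁, hπ₁⟩ := exists_lift_loc iL (algebraMap R (T₁ × T₂) f) (away_self _) g₁
    (IsLocalization.Away.algebraMap_isUnit (S := L₁) (algebraMap R T₁ f))
  obtain ⟨π₂, hπ₂⟩ := exists_lift_loc iL (algebraMap R (T₁ × T₂) f) (away_self _) g₂
    (IsLocalization.Away.algebraMap_isUnit (S := L₂) (algebraMap R T₂ f))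
  refine ⟨π₁, π₂, ?_, hπ₁, hπ₂⟩
  have h1 : ∀ x : T₁ × T₂, π₁ (algebraMap _ _ x) = algebraMap T₁ L₁ x.1 := fun x => AlgHom.congr_fun hπ₁ x
  have h2 : ∀ x : T₁ × T₂, π₂ (algebraMap _ _ x) = algebraMap T₂ L₂ x.2 := fun x => AlgHom.congr_fun hπ₂ x
  have hu : IsUnit (algebraMap R (Localization.Away (algebraMap R (T₁ × T₂) f)) f) := by
    rw [IsScalarTower.algebraMap_apply R (T₁ × T₂) (Localization.Away (algebraMap R (T₁ × T₂) f))]
    exact IsLocalization.Away.algebraMap_isUnit _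
  constructor
  · intro a b hab
    obtain ⟨⟨x, _, i, rfl⟩, hx⟩ := IsLocalization.surj (Submonoid.powers (algebraMap R (T₁ × T₂) f)) a
    obtain ⟨⟨y, _, j, rfl⟩, hy⟩ := IsLocalization.surj (Submonoid.powers (algebraMap R (T₁ × T₂) f)) b
    simp only [map_pow, ← IsScalarTower.algebraMap_apply] at hx hy
    have ha₁ : π₁ a = π₁ b := congrArg Prod.fst hab
    have ha₂ : π₂ a = π₂ b := congrArg Prod.snd hab
    let F := algebraMap R (T₁ × T₂) f
    have e₁ : algebraMap T₁ L₁ (F ^ j * x).1 = algebraMap T₁ L₁ (F ^ i * y).1 := by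
      rw [← h1, ← h1]
      simp only [F, map_mul, map_pow, ← IsScalarTower.algebraMap_apply, ← hx, ← hy, ha₁]
      ring
    have e₂ : algebraMap T₂ L₂ (F ^ j * x).2 = algebraMap T₂ L₂ (F ^ i * y).2 := by
      rw [← h2, ← h2]
      simp only [F, map_mul, map_pow, ← IsScalarTower.algebraMap_apply, ← hx, ← hy, ha₂]
      ring
    obtain ⟨⟨_, k, rfl⟩, hk⟩ := IsLocalization.exists_of_eq (M := Submonoid.powers (algebraMap R T₁ f)) e₁
    obtain ⟨⟨_, l, rfl⟩, hl⟩ := IsLocalization.exists_of_eq (M := Submonoid.powers (algebraMap R T₂ f)) e₂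
    have e : F ^ (k + l) * (F ^ j * x) = F ^ (k + l) * (F ^ i * y) := by
      refine Prod.ext ?_ ?_
      · show algebraMap R T₁ f ^ (k + l) * _ = algebraMap R T₁ f ^ (k + l) * _
        rw [pow_add, mul_comm (algebraMap R T₁ f ^ k), mul_assoc, mul_assoc]
        exact congrArg _ hk
      · show algebraMap R T₂ f ^ (k + l) * _ = algebraMap R T₂ f ^ (k + l) * _
        rw [pow_add, mul_assoc, mul_assoc]
        exact congrArg _ hl
    have e' := congrArg (algebraMap (T₁ × T₂) (Localization.Away (algebraMap R (T₁ × T₂) f))) e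
    simp only [map_mul, map_pow, F, ← IsScalarTower.algebraMap_apply, ← hx, ← hy] at e'
    refine (hu.pow (k + l + j + i)).mul_left_cancel ?_
    rw [pow_add, pow_add, mul_assoc, mul_assoc]
    rw [mul_assoc, mul_assoc]
    linear_combination e'
  · rintro ⟨a, b⟩
    obtain ⟨⟨x, _, i, rfl⟩, hx⟩ := IsLocalization.surj (Submonoid.powers (algebraMap R T₁ f)) a
    obtain ⟨⟨y, _, j, rfl⟩, hy⟩ := IsLocalization.surj (Submonoid.powers (algebraMap R T₂ f)) b
    simp only [map_pow, ← IsScalarTower.algebraMap_apply] at hx hy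
    obtain ⟨v, hv⟩ := (hu.pow (i + j)).exists_left_inv
    refine ⟨v * algebraMap _ _ ((algebraMap R T₁ f ^ j * x, algebraMap R T₂ f ^ i * y) : T₁ × T₂), Prod.ext ?_ ?_⟩
    · show π₁ _ = a
      have h' := congrArg π₁ hv
      simp only [map_mul, map_pow, AlgHom.commutes, map_one] at h'
      rw [map_mul, h1]
      simp only [map_mul, map_pow, ← IsScalarTower.algebraMap_apply, ← hx]
      linear_combination a * h' - π₁ v * algebraMap R L₁ f ^ j * hx
    · show π₂ _ = b
      have h' := congrArg π₂ hv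
      simp only [map_mul, map_pow, AlgHom.commutes, map_one] at h'
      rw [map_mul, h2]
      simp only [map_mul, map_pow, ← IsScalarTower.algebraMap_apply, ← hy]
      linear_combination b * h' - π₂ v * algebraMap R L₂ f ^ i * hy

variable {R' : Type u} [CommRing R'] [Algebra R R'] {f : R} {d : Data R R' f}

/-- Two charts combine to one. -/
theorem exists_chart_prod (hRR' : EtGlue.IsGlueingPair R R' f) (c₁ c₂ : Chart d) :
    ∃ c : Chart d, (∀ z, z ∈ Set.range c₁.x.left ∨ z ∈ Set.range c₂.x.left → z ∈ Set.range c.x.left) ∧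
      ∀ z, z ∈ Set.range c₁.y.left ∨ z ∈ Set.range c₂.y.left → z ∈ Set.range c.y.left := by
  classical
  haveI := d.qaV
  haveI := d.qaY
  let T := c₁.T × c₂.T
  let p₁ : T →ₐ[R] c₁.T := AlgHom.fst R c₁.T c₂.T
  let p₂ : T →ₐ[R] c₂.T := AlgHom.snd R c₁.T c₂.T
  obtain ⟨π₁, π₂, hπ, hπ₁, hπ₂⟩ := isSplit_loc (T₁ := c₁.T) (T₂ := c₂.T) f
  let m₁ : R' ⊗[R] T →ₐ[R] R' ⊗[R] c₁.T := Algebra.TensorProduct.map (AlgHom.id R R') p₁
  let m₂ : R' ⊗[R] T →ₐ[R] R' ⊗[R] c₂.T := Algebra.TensorProduct.map (AlgHom.id R R') p₂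
  have hm : IsSplit m₁ m₂ := by
    have e : (m₁.prod m₂ : R' ⊗[R] T → (R' ⊗[R] c₁.T) × (R' ⊗[R] c₂.T)) =
        Algebra.TensorProduct.prodRight R R R' c₁.T c₂.T := funext fun z => by
      induction z using TensorProduct.induction_on with
      | zero => rw [map_zero, map_zero]
      | add a b ha hb => rw [map_add, map_add, ha, hb]
      | tmul r t =>
        rw [Algebra.TensorProduct.prodRight_tmul]
        exact Prod.ext (Algebra.TensorProduct.map_tmul _ _ _ _) (Algebra.TensorProduct.map_tmul _ _ _ _)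
    rw [IsSplit, e]
    exact (Algebra.TensorProduct.prodRight R R R' c₁.T c₂.T).bijective
  obtain ⟨x, hx₁, hx₂, hxf, hxp⟩ := hπ.exists_point c₁.x c₂.x
  obtain ⟨y, hy₁, hy₂, hyf, hyp⟩ := hm.exists_point c₁.y c₂.y
  have hT : EtGlue.IsGlueable R R' f T := by
    refine ((Groth.Agent.S2005.result R R' f hRR'.1 T).2 hRR').2 fun m ⟨k, hk⟩ h0 => Prod.ext ?_ ?_
    · refine ((Groth.Agent.S2005.result R R' f hRR'.1 c₁.T).2 hRR').1 c₁.glueable m.1
        ⟨k, congrArg Prod.fst hk⟩ ?_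
      exact ((Algebra.TensorProduct.map_tmul (AlgHom.id R R') p₁ 1 m).symm.trans
        ((congrArg m₁ h0).trans (map_zero m₁)))
    · refine ((Groth.Agent.S2005.result R R' f hRR'.1 c₂.T).2 hRR').1 c₂.glueable m.2
        ⟨k, congrArg Prod.snd hk⟩ ?_
      exact ((Algebra.TensorProduct.map_tmul (AlgHom.id R R') p₂ 1 m).symm.trans
        ((congrArg m₂ h0).trans (map_zero m₂)))
  have hy' : y ≫ d.y' = specMap (Algebra.TensorProduct.includeLeft : R' →ₐ[R] R' ⊗[R] T) := by
    obtain ⟨θ, hθ⟩ := specMap_surjective (y ≫ d.y')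
    rw [← hθ]
    congr 1
    have k₁ : m₁.comp θ = Algebra.TensorProduct.includeLeft := specMap_injective (by
      rw [← specMap_comp, hθ, reassoc_of% hy₁, c₁.y_y'])
    have k₂ : m₂.comp θ = Algebra.TensorProduct.includeLeft := specMap_injective (by
      rw [← specMap_comp, hθ, reassoc_of% hy₂, c₂.y_y'])
    refine AlgHom.ext fun r => hm.eq ?_ ?_
    · refine (AlgHom.congr_fun k₁ r).trans ?_
      exact ((Algebra.TensorProduct.map_tmul (AlgHom.id R R') p₁ r 1).trans (by rw [map_one]; rfl)).symm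
    · refine (AlgHom.congr_fun k₂ r).trans ?_
      exact ((Algebra.TensorProduct.map_tmul (AlgHom.id R R') p₂ r 1).trans (by rw [map_one]; rfl)).symm
  refine ⟨{ T := T, glueable := hT, x := x, y := y, y_y' := hy'
            rel := fun B _ _ β γ h => ?_
            flat_x := hxf c₁.flat_x c₂.flat_x, lfp_x := hxp c₁.lfp_x c₂.lfp_x
            flat_y := hyf c₁.flat_y c₂.flat_y, lfp_y := hyp c₁.lfp_y c₂.lfp_y }, ?_, ?_⟩
  · have hfB : IsUnit (algebraMap R B f) := by
      rw [← β.commutes, IsScalarTower.algebraMap_apply R T (Localization.Away (algebraMap R T f))]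
      exact (IsLocalization.Away.algebraMap_isUnit _).map β
    let yB := specMap γ ≫ y
    let e : B := β (algebraMap T _ ((1, 0) : T))
    have key : ∀ (C : Type u) [CommRing C] [Algebra R C] (ω : B →ₐ[R] C), (ω e = 1 ∨ ω e = 0) →
        specMap ω ≫ specMap β ≫ x = specMap ω ≫ d.toV yB hfB := by
      intro C _ _ ω hω
      have hr := d.rel_comp (specMap ω) (d.rel_toV yB hfB)
      have he : γ ((1 : R') ⊗ₜ[R] ((1, 0) : T)) = e := (AlgHom.congr_fun h ((1, 0) : T)).symm
      have e10 : ((0, 1) : T) = 1 - (1, 0) := Prod.ext (sub_self (1 : c₁.T)).symm (sub_zero (1 : c₂.T)).symm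
      rcases hω with hω | hω
      · obtain ⟨β₁, hβ₁⟩ := hπ.exists_factor (ω.comp β) (u := algebraMap T _ ((1, 0) : T))
          ((AlgHom.congr_fun hπ₂ ((1, 0) : T)).trans (map_zero (algebraMap c₂.T _))) hω
        obtain ⟨γ₁, hγ₁⟩ := hm.exists_factor (ω.comp γ) (u := (1 : R') ⊗ₜ[R] ((1, 0) : T))
          ((Algebra.TensorProduct.map_tmul _ _ _ _).trans (TensorProduct.tmul_zero _ _))
          ((congrArg ω he).trans hω)
        have r := c₁.rel C β₁ γ₁ (AlgHom.ext fun t => by
          have t1 := AlgHom.congr_fun hβ₁ (algebraMap T _ ((t, 0) : T))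
          rw [AlgHom.comp_apply,
            show π₁ (algebraMap T _ ((t, 0) : T)) = algebraMap c₁.T _ t from AlgHom.congr_fun hπ₁ _] at t1
          have t2 := AlgHom.congr_fun hγ₁ ((1 : R') ⊗ₜ[R] ((t, 0) : T))
          rw [AlgHom.comp_apply, show m₁ ((1 : R') ⊗ₜ[R] ((t, 0) : T)) = (1 : R') ⊗ₜ[R] t from
            Algebra.TensorProduct.map_tmul _ _ _ _] at t2
          exact (t1.trans (congrArg ω (AlgHom.congr_fun h ((t, 0) : T)))).trans t2.symm)
        rw [← hx₁, ← hy₁, specMap_comp_assoc, specMap_comp_assoc, hβ₁, hγ₁, ← specMap_comp_assoc,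
          ← specMap_comp_assoc] at r
        exact d.rel_left_unique r hr
      · have hω' : ω (β (algebraMap T _ ((0, 1) : T))) = 1 := by
          rw [e10, map_sub, map_sub, map_sub, map_one, map_one, map_one, hω, sub_zero]
        obtain ⟨β₁, hβ₁⟩ := hπ.swap.exists_factor (ω.comp β) (u := algebraMap T _ ((0, 1) : T))
          ((AlgHom.congr_fun hπ₁ ((0, 1) : T)).trans (map_zero (algebraMap c₁.T _))) hω'
        obtain ⟨γ₁, hγ₁⟩ := hm.swap.exists_factor (ω.comp γ) (u := (1 : R') ⊗ₜ[R] ((0, 1) : T))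
          ((Algebra.TensorProduct.map_tmul _ _ _ _).trans (TensorProduct.tmul_zero _ _))
          ((congrArg ω (AlgHom.congr_fun h ((0, 1) : T)).symm).trans hω')
        have r := c₂.rel C β₁ γ₁ (AlgHom.ext fun t => by
          have t1 := AlgHom.congr_fun hβ₁ (algebraMap T _ ((0, t) : T))
          rw [AlgHom.comp_apply,
            show π₂ (algebraMap T _ ((0, t) : T)) = algebraMap c₂.T _ t from AlgHom.congr_fun hπ₂ _] at t1
          have t2 := AlgHom.congr_fun hγ₁ ((1 : R') ⊗ₜ[R] ((0, t) : T))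
          rw [AlgHom.comp_apply, show m₂ ((1 : R') ⊗ₜ[R] ((0, t) : T)) = (1 : R') ⊗ₜ[R] t from
            Algebra.TensorProduct.map_tmul _ _ _ _] at t2
          exact (t1.trans (congrArg ω (AlgHom.congr_fun h ((0, t) : T)))).trans t2.symm)
        rw [← hx₂, ← hy₂, specMap_comp_assoc, specMap_comp_assoc, hβ₁, hγ₁, ← specMap_comp_assoc,
          ← specMap_comp_assoc] at r
        exact d.rel_left_unique r hr
    have hxe : specMap β ≫ x = d.toV yB hfB := by
      have hid : e * e = e := by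
        rw [← map_mul, ← map_mul]
        congr 2
        exact Prod.ext (mul_one 1) (mul_zero 0)
      have hid' : e * (1 - e) = 0 := by rw [mul_sub, mul_one, hid, sub_self]
      refine point_ext (RingHom.ext fun r => ?_)
      let ω₁ : B →ₐ[R] Localization.Away e := IsScalarTower.toAlgHom R B _
      let ω₂ : B →ₐ[R] Localization.Away (1 - e) := IsScalarTower.toAlgHom R B _
      have u₁ : ω₁ e = 1 := (IsLocalization.Away.algebraMap_isUnit (S := Localization.Away e) e).mul_left_cancel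
        (((map_mul ω₁ e e).symm.trans (congrArg ω₁ hid)).trans (mul_one _).symm)
      have u₂ : ω₂ e = 0 := (IsLocalization.Away.algebraMap_isUnit (S := Localization.Away (1 - e)) (1 - e)).mul_left_eq_zero.1
        ((map_mul ω₂ e (1 - e)).symm.trans ((congrArg ω₂ hid').trans (map_zero _)))
      have k₁ := congrArg (fun m => pull m r) (key _ ω₁ (Or.inl u₁))
      have k₂ := congrArg (fun m => pull m r) (key _ ω₂ (Or.inr u₂))
      simp only [pull_comp ] at k₁ k₂
      have b₁ := IsLocalization.exists_of_eq (M := Submonoid.powers e) (S := Localization.Away e) k₁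
      have b₂ := IsLocalization.exists_of_eq (M := Submonoid.powers (1 - e)) (S := Localization.Away (1 - e)) k₂
      obtain ⟨⟨_, i, rfl⟩, hi⟩ := b₁
      obtain ⟨⟨_, j, rfl⟩, hj⟩ := b₂
      have he' : IsIdempotentElem e := hid
      have hi' := congrArg (e * ·) hi
      have hj' := congrArg ((1 - e) * ·) hj
      simp only [← mul_assoc, ← pow_succ', he'.pow_succ_eq, he'.one_sub.pow_succ_eq] at hi' hj'
      have hi2 : e * β (pull x r) = e * pull (d.toV yB hfB) r := hi'
      have hj2 : (1 - e) * β (pull x r) = (1 - e) * pull (d.toV yB hfB) r := hj'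
      rw [pull_comp]
      show β (pull x r) = pull (d.toV yB hfB) r
      linear_combination hi2 + hj2
    rw [hxe]
    exact d.rel_toV yB hfB
  · rintro z (⟨q, rfl⟩ | ⟨q, rfl⟩)
    · exact ⟨(specMap π₁).left q, by rw [← Scheme.Hom.comp_apply, ← Over.comp_left, hx₁]⟩
    · exact ⟨(specMap π₂).left q, by rw [← Scheme.Hom.comp_apply, ← Over.comp_left, hx₂]⟩
  · rintro z (⟨q, rfl⟩ | ⟨q, rfl⟩)
    · exact ⟨(specMap m₁).left q, by rw [← Scheme.Hom.comp_apply, ← Over.comp_left, hy₁]⟩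
    · exact ⟨(specMap m₂).left q, by rw [← Scheme.Hom.comp_apply, ← Over.comp_left, hy₂]⟩

end Groth.Agent.QAGlueLib

end
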