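import Groth.Agent.QAGlueLib.Cover
import Groth.Agent.ASp.FlatQuot
import Groth.Agent.ASp.QuotSep
import Groth.Agent.ASp.FppfGlue

/-! Points of affine schemes with values in arbitrary schemes, and descent along the pieces of a cover. -/

set_option autoImplicit false
set_option linter.style.haveILetI false
set_option backward.isDefEq.respectTransparency false
set_option backward.isDefEq.respectTransparency.types false
set_option maxHeartbeats 1600000

universe u

open CategoryTheory CategoryTheory.Limits AlgebraicGeometry TensorProduct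

noncomputable section

namespace Groth.Agent.QAGlueLib

open _root_.AlgSp Groth.Agent.AlgSpGlue Groth.Agent.GlueEqLib

variable {R : Type u} [CommRing R]

/-- The algebra of global functions of a scheme over the base. -/
scoped instance algΓ (W : Over (Spec (CommRingCat.of R))) : Algebra R Γ(W.left, ⊤) := (strΓ W).toAlgebra

/-- The affinisation of a scheme over the base. -/
abbrev affinisation (W : Over (Spec (CommRingCat.of R))) : Over (Spec (CommRingCat.of R)) :=
  specOver R Γ(W.left, ⊤)

/-- The map to the affinisation. -/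
def toAffinisation (W : Over (Spec (CommRingCat.of R))) : W ⟶ affinisation W :=
  Over.homMk W.left.toSpecΓ (toSpecΓ_str W)

/-- Maps to affine schemes are maps of algebras. -/
theorem exists_algHom {W : Over (Spec (CommRingCat.of R))} {A : Type u} [CommRing A] [Algebra R A]
    (r : W ⟶ specOver R A) :
    ∃ φ : A →ₐ[R] Γ(W.left, ⊤), toAffinisation W ≫ specMap φ = r := by
  let φ₀ : A →+* Γ(W.left, ⊤) := r.left.appTop.hom.comp (Scheme.ΓSpecIso (CommRingCat.of A)).inv.hom
  have h : W.left.toSpecΓ ≫ Spec.map (CommRingCat.ofHom φ₀) = r.left := by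
    show W.left.toSpecΓ ≫ Spec.map ((Scheme.ΓSpecIso (CommRingCat.of A)).inv ≫ r.left.appTop) = r.left
    rw [Spec.map_comp, ← Scheme.toSpecΓ_naturality_assoc]
    exact (congrArg (r.left ≫ ·) (toSpecΓ_SpecMap_ΓSpecIso_inv (CommRingCat.of A))).trans (Category.comp_id _)
  have hs : φ₀.comp (algebraMap R A) = strΓ W := by
    have h2 : W.left.toSpecΓ ≫ Spec.map (CommRingCat.ofHom (φ₀.comp (algebraMap R A))) = W.hom := by
      rw [CommRingCat.ofHom_comp, Spec.map_comp, reassoc_of% h]
      exact Over.w r
    rw [← toSpecΓ_str W] at h2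
    have h3 := congrArg (fun m => ((Scheme.ΓSpecIso (CommRingCat.of R)).inv ≫ Scheme.Hom.appTop m).hom) h2
    simpa [Scheme.ΓSpecIso_inv_naturality_assoc, Scheme.toSpecΓ_appTop] using h3
  exact ⟨{ φ₀ with commutes' := RingHom.congr_fun hs }, Over.OverMorphism.ext h⟩

/-- Points of a quasi-affine scheme are detected on the affinisation. -/
theorem pull_eq {W : Over (Spec (CommRingCat.of R))} {X : Over (Spec (CommRingCat.of R))}
    (z : affinisation W ⟶ X) :
    pull z = (toAffinisation W ≫ z).left.appTop.hom := by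
  show (z.left.appTop ≫ (Scheme.ΓSpecIso Γ(W.left, ⊤)).hom).hom = (z.left.appTop ≫ W.left.toSpecΓ.appTop).hom
  rw [Scheme.toSpecΓ_appTop]

theorem affinisation_ext {W : Over (Spec (CommRingCat.of R))} {X : Over (Spec (CommRingCat.of R))}
    [X.left.IsQuasiAffine] {z z' : affinisation W ⟶ X} (h : toAffinisation W ≫ z = toAffinisation W ≫ z') : z = z' := by
  exact point_ext (by rw [pull_eq, pull_eq, h])

theorem algHom_ext_of_affinisation {W : Over (Spec (CommRingCat.of R))} {A : Type u} [CommRing A] [Algebra R A] :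
    ∀ (φ φ' : A →ₐ[R] Γ(W.left, ⊤)), toAffinisation W ≫ specMap φ = toAffinisation W ≫ specMap φ' → φ = φ' := by
  intro φ φ' h
  haveI : IsAffine (specOver R A).left := inferInstanceAs (IsAffine (Spec (CommRingCat.of A)))
  exact specMap_injective (affinisation_ext h)

/-- A piece of a space given by a chart, as a fibre product. -/
theorem isPullback_piece {S : Scheme.{u}} {F : Sp S} {U G O U' G' V : Over S} {p : (yon S).obj U ⟶ F} [Epi p]
    (hpf : RepWith @Flat p) (hpl : RepWith @LocallyOfFinitePresentation p) (hps : RepWith @Surjective p)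
    {t s : G ⟶ U} (hR : IsPullback ((yon S).map t) ((yon S).map s) p p)
    (πY : F ⟶ (yon S).obj (Over.mk (𝟙 S))) (tO : O ⟶ Over.mk (𝟙 S))
    {qU : U' ⟶ U} {oU : U' ⟶ O}
    (hU' : IsPullback ((yon S).map qU) ((yon S).map oU) ((yon S).map (Over.homMk U.hom (Category.comp_id _)))
      ((yon S).map tO))
    {qG : G' ⟶ G} {oG : G' ⟶ O}
    (hG' : IsPullback ((yon S).map qG) ((yon S).map oG) ((yon S).map (Over.homMk G.hom (Category.comp_id _)))
      ((yon S).map tO))
    (t' s' : G' ⟶ U') (ht : t' ≫ qU = qG ≫ t) (hs : s' ≫ qU = qG ≫ s) (ht' : t' ≫ oU = oG) (hs' : s' ≫ oU = oG)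
    {z : U' ⟶ V} [Flat z.left] [LocallyOfFinitePresentation z.left] [Surjective z.left]
    (hz : t' ≫ z = s' ≫ z) (v : V ⟶ O) (hv : z ≫ v = oU) (a : (yon S).obj V ⟶ F)
    (ha : (yon S).map z ≫ a = (yon S).map qU ≫ p) :
    IsPullback a ((yon S).map v) πY ((yon S).map tO) := by
  have hP := IsPullback.of_hasPullback πY ((yon S).map tO)
  let c := hP.lift a ((yon S).map v) (map_to_base_eq _ _)
  let k := hP.lift ((yon S).map qU ≫ p) ((yon S).map oU) (map_to_base_eq _ _)
  have hpU : p ≫ πY = (yon S).map (Over.homMk U.hom (Category.comp_id _)) := map_to_base_eq _ _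
  have hk : IsPullback ((yon S).map qU) k p (pullback.fst πY ((yon S).map tO)) := by
    refine IsPullback.of_bot ?_ (hP.lift_fst _ _ _).symm hP
    rw [hpU, hP.lift_snd]
    exact hU'
  haveI : Sheaf.IsLocallySurjective k := ASp.isLocallySurjective_of_repWith
    (ASp.repWith_of_isPullback hk hpf) (ASp.repWith_of_isPullback hk hpl) (ASp.repWith_of_isPullback hk hps)
  haveI : Epi k := inferInstance
  have hK := IsPullback.of_hasPullback k k
  let r₁ := pullback.fst k k
  let r₂ := pullback.snd k k
  have e : (r₁ ≫ (yon S).map qU) ≫ p = (r₂ ≫ (yon S).map qU) ≫ p := by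
    rw [Category.assoc, Category.assoc, hk.w, hK.w_assoc]
  have eo : r₁ ≫ (yon S).map oU = r₂ ≫ (yon S).map oU := by
    have := hK.w =≫ pullback.snd πY ((yon S).map tO)
    simp only [Category.assoc, k, hP.lift_snd] at this
    exact this
  let l := hR.lift _ _ e
  let l' := hG'.lift l (r₁ ≫ (yon S).map oU) (by
    have h1 : (yon S).map t ≫ (yon S).map (Over.homMk U.hom (Category.comp_id _)) =
        (yon S).map (Over.homMk G.hom (Category.comp_id _)) := map_to_base_eq _ _
    rw [← h1, ← Category.assoc, hR.lift_fst, Category.assoc, hU'.w, Category.assoc])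
  have e₁ : l' ≫ (yon S).map t' = r₁ := by
    refine hU'.hom_ext ?_ ?_
    · rw [Category.assoc, ← Functor.map_comp, ht, Functor.map_comp, hG'.lift_fst_assoc, hR.lift_fst]
    · rw [Category.assoc, ← Functor.map_comp, ht', hG'.lift_snd]
  have e₂ : l' ≫ (yon S).map s' = r₂ := by
    refine hU'.hom_ext ?_ ?_
    · rw [Category.assoc, ← Functor.map_comp, hs, Functor.map_comp, hG'.lift_fst_assoc, hR.lift_snd]
    · rw [Category.assoc, ← Functor.map_comp, hs', hG'.lift_snd, eo]
  obtain ⟨d, hd⟩ := ASp.exists_desc_of_epi k hK ((yon S).map z) (by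
    show r₁ ≫ (yon S).map z = r₂ ≫ (yon S).map z
    rw [← e₁, ← e₂, Category.assoc, Category.assoc, ← Functor.map_comp, ← Functor.map_comp, hz])
  have hzc : (yon S).map z ≫ c = k := by
    refine hP.hom_ext ?_ ?_
    · rw [Category.assoc, hP.lift_fst, hP.lift_fst, ha]
    · rw [Category.assoc, hP.lift_snd, hP.lift_snd, ← Functor.map_comp, hv]
  have h1 : c ≫ d = 𝟙 _ := by
    refine ASp.hom_ext_fppf (ι := PUnit.{u+1}) (U := fun _ => U') (c := fun _ => z) (fun _ => ‹_›) (fun _ => ‹_›)
      (fun q => ⟨PUnit.unit, (‹Surjective z.left›).surj q⟩) fun _ => ?_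
    rw [← Category.assoc, hzc, hd, Category.comp_id]
  have h2 : d ≫ c = 𝟙 _ := by
    rw [← cancel_epi k, ← Category.assoc, hd, hzc, Category.comp_id]
  haveI : IsIso c := ⟨d, h1, h2⟩
  exact IsPullback.of_iso hP (⟨d, c, h2, h1⟩ : pullback πY ((yon S).map tO) ≅ (yon S).obj V)
    (Iso.refl _) (Iso.refl _) (Iso.refl _)
    (by simp only [Iso.refl_hom, Category.comp_id]; rw [← cancel_epi c, reassoc_of% h1, hP.lift_fst])
    (by simp only [Iso.refl_hom, Category.comp_id]; rw [← cancel_epi c, reassoc_of% h1, hP.lift_snd])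
    (by simp) (by simp)

end Groth.Agent.QAGlueLib

end
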