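import Groth.Agent.QAGlueLib.RelProps
import Groth.Agent.QAGlueLib.Product
import Groth.Agent.QAGlueLib.Sheaf
import Groth.Agent.ASp.Bootstrap

/-! The glued separated algebraic space. -/

set_option autoImplicit false
set_option linter.style.haveILetI false
set_option backward.isDefEq.respectTransparency false
set_option backward.isDefEq.respectTransparency.types false
set_option maxHeartbeats 1600000

universe u

open CategoryTheory CategoryTheory.Limits AlgebraicGeometry TensorProduct

noncomputable section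

namespace Groth.Agent.QAGlueLib

open _root_.AlgSp Groth.Agent.AlgSpGlue Groth.Agent.GlueEqLib

variable {R R' : Type u} [CommRing R] [CommRing R'] [Algebra R R'] {f : R}

/-- A point of a scheme over the base as a point with values in a field. -/
theorem exists_field_valued (X : Over (Spec (CommRingCat.of R))) (z : X.left) :
    ∃ (κ : Type u) (_ : Field κ) (_ : Algebra R κ) (x : specOver R κ ⟶ X) (pt : (specOver R κ).left),
      x.left pt = z := by
  let κ := X.left.residueField z
  letI : Algebra R κ := (Spec.preimage (X.left.fromSpecResidueField z ≫ X.hom)).hom.toAlgebra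
  refine ⟨κ, inferInstance, inferInstance,
    Over.homMk (U := specOver R κ) (X.left.fromSpecResidueField z) ((Spec.map_preimage _).symm), ?_⟩
  obtain ⟨pt⟩ := (inferInstance : Nonempty (Spec (X.left.residueField z)))
  exact ⟨pt, X.left.fromSpecResidueField_apply z pt⟩

/-- A single chart whose maps to the two pieces are surjective. -/
theorem exists_chart_cover (hRR' : EtGlue.IsGlueingPair R R' f) (d : Data R R' f) :
    ∃ c : Chart d, Surjective c.x.left ∧ Surjective c.y.left := by
  classical
  haveI := d.qaV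
  haveI := d.qaY
  obtain ⟨P, _, _, p, n, hpf, hplfp, hp⟩ := exists_affine_cover d.V
  have hp' : IsUnivCover p n := hp
  obtain ⟨c₀, hc₀x, hc₀y⟩ := exists_chart_triv d p hRR' hpf hplfp hp'
  have hlift : ∀ (κ : Type u) [CommRing κ] [Algebra R κ] (x : specOver R κ ⟶ d.V),
      ∃ π : P →ₐ[R] κ, specMap π ≫ p = x := by
    intro κ _ _ x
    obtain ⟨φ, hφ, -⟩ := hp κ x
    let ev : MvPolynomial (Fin n) κ →ₐ[κ] κ := MvPolynomial.aeval fun _ => 0
    refine ⟨(ev.restrictScalars R).comp φ, ?_⟩
    rw [← specMap_comp_assoc, hφ, specMap_comp_assoc,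
      show (ev.restrictScalars R).comp (IsScalarTower.toAlgHom R κ (MvPolynomial (Fin n) κ)) = AlgHom.id R κ from
        AlgHom.ext fun l => ev.commutes l]
    ext1
    show Spec.map (CommRingCat.ofHom (RingHom.id κ)) ≫ x.left = x.left
    rw [show CommRingCat.ofHom (RingHom.id κ) = 𝟙 _ from rfl, Spec.map_id, Category.id_comp]
  have hV : ∀ z : d.V.left, z ∈ Set.range c₀.x.left := by
    intro z
    obtain ⟨κ, _, _, x, pt, hpt⟩ := exists_field_valued d.V z
    obtain ⟨π, hπ⟩ := hlift κ x
    exact hc₀x z ⟨(specMap π).left pt, by rw [← Scheme.Hom.comp_apply, ← Over.comp_left, hπ, hpt]⟩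
  have hY0 : ∀ z : d.Y'.left, f ∉ (d.Y'.hom z).asIdeal → z ∈ Set.range c₀.y.left := by
    intro z hz
    obtain ⟨κ, _, _, y, pt, hpt⟩ := exists_field_valued d.Y' z
    have hu : IsUnit (algebraMap R κ f) := by
      refine isUnit_iff_ne_zero.2 fun h0 => hz ?_
      have hw := congrArg (fun m => m pt) (Over.w y)
      simp only [Scheme.Hom.comp_apply] at hw
      rw [← hpt, hw]
      show algebraMap R κ f ∈ (pt : PrimeSpectrum κ).asIdeal
      rw [h0]
      exact Ideal.zero_mem _
    obtain ⟨π, hπ⟩ := hlift κ (d.toV y hu)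
    obtain ⟨θ, hθ⟩ := specMap_surjective (y ≫ d.y')
    let γ : R' ⊗[R] P →ₐ[R] κ := Algebra.TensorProduct.lift θ π fun _ _ => Commute.all _ _
    have h1 := d.rel_comp (specMap γ) (rel_yP d p)
    rw [specMap_comp_assoc, Algebra.TensorProduct.lift_comp_includeRight' θ π fun _ _ => Commute.all _ _, hπ] at h1
    have e : specMap γ ≫ yP d p = y := d.rel_right_unique h1 (d.rel_toV y hu) (by
      rw [Category.assoc, yP_y', specMap_comp,
        Algebra.TensorProduct.lift_comp_includeLeft θ π fun _ _ => Commute.all _ _, hθ])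
    exact hc₀y z ⟨(specMap γ).left pt, by rw [← Scheme.Hom.comp_apply, ← Over.comp_left, e, hpt]⟩
  obtain ⟨k, a, haff, hcov⟩ := exists_finite_cover d.Y'.left
  have key : ∀ m : ℕ, m ≤ k → ∃ c : Chart d, (∀ z : d.V.left, z ∈ Set.range c.x.left) ∧
      ∀ z : d.Y'.left, (f ∉ (d.Y'.hom z).asIdeal ∨ ∃ i : Fin k, (i : ℕ) < m ∧ z ∈ d.Y'.left.basicOpen (a i)) →
        z ∈ Set.range c.y.left := by
    intro m
    induction m with
    | zero =>
      exact fun _ => ⟨c₀, hV, fun z hz => hY0 z (hz.resolve_right fun ⟨i, hi, _⟩ => Nat.not_lt_zero _ hi)⟩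
    | succ m ih =>
      intro hm
      obtain ⟨c, hcx, hcy⟩ := ih (Nat.le_of_succ_le hm)
      obtain ⟨pc⟩ := exists_piece d (a ⟨m, hm⟩) (haff _)
      obtain ⟨c', hc'⟩ := exists_chart d hRR' hpf hplfp hp' pc
      obtain ⟨cc, hx, hy⟩ := exists_chart_prod hRR' c c'
      refine ⟨cc, fun z => hx z (Or.inl (hcx z)), fun z hz => ?_⟩
      by_cases hf : f ∈ (d.Y'.hom z).asIdeal
      · obtain ⟨i, hi, hzi⟩ := hz.resolve_left (not_not.2 hf)
        rcases Nat.lt_succ_iff_lt_or_eq.1 hi with hi' | hi'
        · exact hy z (Or.inl (hcy z (Or.inr ⟨i, hi', hzi⟩)))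
        · have e : i = ⟨m, hm⟩ := Fin.ext hi'
          subst e
          exact hy z (Or.inr (hc' z hzi hf))
      · exact hy z (Or.inl (hcy z (Or.inl hf)))
  obtain ⟨c, hcx, hcy⟩ := key k le_rfl
  refine ⟨c, ⟨hcx⟩, ⟨fun z => ?_⟩⟩
  obtain ⟨i, hi⟩ := hcov z
  exact hcy z (Or.inr ⟨i, i.2, hi⟩)

theorem isPullback_over_of_algHom {A O E : Type u} [CommRing A] [Algebra R A] [CommRing O] [Algebra R O] [CommRing E]
    [Algebra R E] (q : A →ₐ[R] E) (o : O →ₐ[R] E) (tO : specOver R O ⟶ Over.mk (𝟙 _))
    (h : ∀ (B : Type u) [CommRing B] [Algebra R B] (a : A →ₐ[R] B) (b : O →ₐ[R] B),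
      ∃! e : E →ₐ[R] B, e.comp q = a ∧ e.comp o = b) :
    IsPullback (specMap q) (specMap o) (Over.homMk (specOver R A).hom (Category.comp_id _)) tO := by
  refine IsPullback.of_isLimit' ⟨Over.mkIdTerminal.hom_ext _ _⟩ ?_
  refine PullbackCone.IsLimit.mk _ (fun s => toAffinisation s.pt ≫
      specMap (h _ (exists_algHom s.fst).choose (exists_algHom s.snd).choose).exists.choose) (fun s => ?_) (fun s => ?_)
    (fun s m hm₁ hm₂ => ?_)
  · rw [Category.assoc, specMap_comp,
      (h _ (exists_algHom s.fst).choose (exists_algHom s.snd).choose).exists.choose_spec.1]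
    exact (exists_algHom s.fst).choose_spec
  · rw [Category.assoc, specMap_comp,
      (h _ (exists_algHom s.fst).choose (exists_algHom s.snd).choose).exists.choose_spec.2]
    exact (exists_algHom s.snd).choose_spec
  · obtain ⟨e, he⟩ := exists_algHom m
    rw [← he]
    congr 2
    refine (h _ (exists_algHom s.fst).choose (exists_algHom s.snd).choose).unique ⟨?_, ?_⟩
      (h _ (exists_algHom s.fst).choose (exists_algHom s.snd).choose).exists.choose_spec
    · exact algHom_ext_of_affinisation _ _ (by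
        rw [← specMap_comp, reassoc_of% he, hm₁, (exists_algHom s.fst).choose_spec])
    · exact algHom_ext_of_affinisation _ _ (by
        rw [← specMap_comp, reassoc_of% he, hm₂, (exists_algHom s.snd).choose_spec])

theorem algHom_away_ext {B : Type u} [CommRing B] [Algebra R B] (a b : Localization.Away f →ₐ[R] B) : a = b :=
  IsLocalization.algHom_ext (Submonoid.powers f) (Subsingleton.elim _ _)

/-- The product with `Spec R_f`. -/
theorem isPullback_away (A : Type u) [CommRing A] [Algebra R A]
    (σ : Localization.Away f →ₐ[R] Localization.Away (algebraMap R A f))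
    (tU : specOver R (Localization.Away f) ⟶ Over.mk (𝟙 _)) :
    IsPullback (specMap (IsScalarTower.toAlgHom R A (Localization.Away (algebraMap R A f)))) (specMap σ)
      (Over.homMk (specOver R A).hom (Category.comp_id _)) tU := by
  refine isPullback_over_of_algHom _ σ tU fun B _ _ a b => ?_
  have hu : IsUnit (a (algebraMap R A f)) := by
    rw [a.commutes, ← b.commutes]
    exact (IsLocalization.Away.algebraMap_isUnit f).map b
  obtain ⟨e, he⟩ := exists_lift_loc (IsScalarTower.toAlgHom R A (Localization.Away (algebraMap R A f)))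
    (algebraMap R A f) (away_self _) a hu
  exact ⟨e, ⟨he, algHom_away_ext _ _⟩, fun e' he' =>
    IsLocalization.algHom_ext (Submonoid.powers (algebraMap R A f)) (he'.1.trans he.symm)⟩

/-- The product with `Spec R'`. -/
theorem isPullback_tensor (A : Type u) [CommRing A] [Algebra R A] (tX : specOver R R' ⟶ Over.mk (𝟙 _)) :
    IsPullback (specMap (Algebra.TensorProduct.includeRight : A →ₐ[R] R' ⊗[R] A))
      (specMap (Algebra.TensorProduct.includeLeft : R' →ₐ[R] R' ⊗[R] A))
      (Over.homMk (specOver R A).hom (Category.comp_id _)) tX := by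
  refine isPullback_over_of_algHom _ _ tX fun B _ _ a b => ?_
  exact ⟨Algebra.TensorProduct.lift b a fun _ _ => Commute.all _ _,
    ⟨Algebra.TensorProduct.lift_comp_includeRight' b a fun _ _ => Commute.all _ _,
      Algebra.TensorProduct.lift_comp_includeLeft b a fun _ _ => Commute.all _ _⟩,
    fun e he => Algebra.TensorProduct.ext (he.2.trans
      (Algebra.TensorProduct.lift_comp_includeLeft b a fun _ _ => Commute.all _ _).symm) (he.1.trans
      (Algebra.TensorProduct.lift_comp_includeRight' b a fun _ _ => Commute.all _ _).symm)⟩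

/-- The quotient of a chart by its relation. -/
theorem exists_space (hRR' : EtGlue.IsGlueingPair R R' f) (d : Data R R' f)
    (tU : specOver R (Localization.Away f) ⟶ Over.mk (𝟙 _)) (tX : specOver R R' ⟶ Over.mk (𝟙 _)) :
    ∃ (Y : Space (Spec (CommRingCat.of R))) (πY : Y.obj ⟶ (yon _).obj (Over.mk (𝟙 _)))
      (a : (yon _).obj d.V ⟶ Y.obj) (b : (yon _).obj d.Y' ⟶ Y.obj),
      IsSeparatedSp Y.obj ∧ IsPullback a ((yon _).map d.v) πY ((yon _).map tU) ∧
        IsPullback b ((yon _).map d.y') πY ((yon _).map tX) ∧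
        ∀ (B : Type u) [CommRing B] [Algebra R B] (x₀ : specOver R B ⟶ d.V) (y₀ : specOver R B ⟶ d.Y'),
          d.Rel x₀ y₀ → (yon _).map x₀ ≫ a = (yon _).map y₀ ≫ b := by
  classical
  haveI := d.qaV
  haveI := d.qaY
  obtain ⟨c, hxs, hys⟩ := exists_chart_cover hRR' d
  obtain ⟨r⟩ := exists_chartRel hRR' c
  let U := specOver R c.T
  let G := specOver R r.G
  let q : c.T ⊗[R] c.T →ₐ[R] r.G := Algebra.TensorProduct.lift r.j₁ r.j₂ fun _ _ => Commute.all _ _
  have hq₁ : q.comp Algebra.TensorProduct.includeLeft = r.j₁ :=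
    Algebra.TensorProduct.lift_comp_includeLeft _ _ fun _ _ => Commute.all _ _
  have hq₂ : q.comp Algebra.TensorProduct.includeRight = r.j₂ :=
    Algebra.TensorProduct.lift_comp_includeRight' _ _ fun _ _ => Commute.all _ _
  let t : G ⟶ U := specMap r.j₁
  let s : G ⟶ U := specMap r.j₂
  have hE : IsEqvRel s t := by
    refine ⟨fun W ρ ρ' h₁ h₂ => ?_, fun W => ⟨fun a => ?_, ?_, ?_⟩⟩
    · obtain ⟨g, rfl⟩ := exists_algHom ρ
      obtain ⟨g', rfl⟩ := exists_algHom ρ'
      rw [Category.assoc, Category.assoc, specMap_comp, specMap_comp] at h₁ h₂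
      have e₁ := algHom_ext_of_affinisation _ _ h₁
      have e₂ := algHom_ext_of_affinisation _ _ h₂
      have e : g.comp q = g'.comp q := Algebra.TensorProduct.ext
        (by rw [AlgHom.comp_assoc, AlgHom.comp_assoc, hq₁, e₁]) (by
          show (g.comp q).comp Algebra.TensorProduct.includeRight = (g'.comp q).comp Algebra.TensorProduct.includeRight
          rw [AlgHom.comp_assoc, AlgHom.comp_assoc, hq₂, e₂])
      congr 2
      exact AlgHom.ext fun z => by obtain ⟨w, rfl⟩ := r.surj z; exact AlgHom.congr_fun e w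
    · obtain ⟨φ, rfl⟩ := exists_algHom a
      obtain ⟨g, hg₁, hg₂⟩ := r.refl
      refine ⟨toAffinisation W ≫ specMap (φ.comp g), ?_, ?_⟩
      · rw [Category.assoc, specMap_comp, AlgHom.comp_assoc, hg₁, AlgHom.comp_id]
      · rw [Category.assoc, specMap_comp, AlgHom.comp_assoc, hg₂, AlgHom.comp_id]
    · rintro a b ⟨ρ, rfl, rfl⟩
      obtain ⟨φ, rfl⟩ := exists_algHom ρ
      obtain ⟨g, hg₁, hg₂⟩ := r.symm
      refine ⟨toAffinisation W ≫ specMap (φ.comp g), ?_, ?_⟩
      · rw [Category.assoc, Category.assoc, specMap_comp, specMap_comp, AlgHom.comp_assoc, hg₁]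
      · rw [Category.assoc, Category.assoc, specMap_comp, specMap_comp, AlgHom.comp_assoc, hg₂]
    · rintro a b e ⟨ρ, rfl, rfl⟩ ⟨ρ', h, rfl⟩
      obtain ⟨φ, rfl⟩ := exists_algHom ρ
      obtain ⟨φ', rfl⟩ := exists_algHom ρ'
      rw [Category.assoc, Category.assoc, specMap_comp, specMap_comp] at h
      obtain ⟨g, hg₁, hg₂⟩ := r.trans _ φ φ' (algHom_ext_of_affinisation _ _ h).symm
      refine ⟨toAffinisation W ≫ specMap g, ?_, ?_⟩
      · rw [Category.assoc, Category.assoc, specMap_comp, specMap_comp, hg₁]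
      · rw [Category.assoc, Category.assoc, specMap_comp, specMap_comp, hg₂]
  haveI : Flat t.left := (HasRingHomProperty.Spec_iff (P := @Flat)).2 r.flat₁
  haveI : LocallyOfFinitePresentation t.left :=
    (HasRingHomProperty.Spec_iff (P := @LocallyOfFinitePresentation)).2 r.fp₁
  obtain ⟨p, -, hR, hc, -, hepi⟩ := ASp.exists_flat_presentation hE
  haveI := hepi
  haveI : Sheaf.IsLocallySurjective p := (Sheaf.isLocallySurjective_iff_epi _).2 hepi
  obtain ⟨hpf, hpl, hps⟩ := ASp.repWith_flat_surjective_of_kernelPair p hR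
  let Y : Space (Spec (CommRingCat.of R)) :=
    ⟨QuotSh.quot Scheme.fppfPrecoverage s t, ASp.isAlgSpace_of_fppfChart (IsAlgSpace.yon_obj U) hc⟩
  obtain ⟨πY, -⟩ := ASp.exists_desc_of_epi p hR ((yon _).map (Over.homMk U.hom (Category.comp_id _) : U ⟶ Over.mk (𝟙 _)))
    (map_to_base_eq _ _)
  -- the map from `V`
  haveI := c.flat_x; haveI := c.lfp_x; haveI := c.flat_y; haveI := c.lfp_y; haveI := hxs; haveI := hys
  let qU : specOver R (Tf c) ⟶ U := specMap (iTf c)
  obtain ⟨a, ha, -⟩ := ASp.existsUnique_glue (ι := PUnit.{u+1}) (U := fun _ => specOver R (Tf c)) (c := fun _ => c.x)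
    (fun _ => c.flat_x) (fun _ => c.lfp_x) (fun z => ⟨PUnit.unit, hxs.surj z⟩)
    (fun _ => (yon _).map qU ≫ p) (fun _ _ W g₁ g₂ e => by
      obtain ⟨b₁, rfl⟩ := exists_algHom g₁
      obtain ⟨b₂, rfl⟩ := exists_algHom g₂
      simp only [Category.assoc] at e
      have hb := affinisation_ext e
      have hu : IsUnit (algebraMap R Γ(W.left, ⊤) f) := by rw [← b₁.commutes]; exact (isUnit_Tf c).map b₁
      obtain ⟨g, hg₁, hg₂⟩ := r.univX _ hu (b₁.comp (iTf c)) (b₂.comp (iTf c)) (fun β₁ β₂ h₁ h₂ => by
        rw [liftX_unique c h₁, liftX_unique c h₂]; exact hb)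
      rw [← Category.assoc, ← Category.assoc, ← Functor.map_comp, ← Functor.map_comp, Category.assoc, Category.assoc,
        specMap_comp, specMap_comp, ← hg₁, ← hg₂, ← specMap_comp, ← specMap_comp, ← Category.assoc, ← Category.assoc,
        Functor.map_comp _ _ t, Functor.map_comp _ _ s, Category.assoc, Category.assoc, hR.w])
  -- the map from `Y'`
  let qX : specOver R (R' ⊗[R] c.T) ⟶ U := specMap (Algebra.TensorProduct.includeRight : c.T →ₐ[R] R' ⊗[R] c.T)
  obtain ⟨b, hb, -⟩ := ASp.existsUnique_glue (ι := PUnit.{u+1}) (U := fun _ => specOver R (R' ⊗[R] c.T))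
    (c := fun _ => c.y) (fun _ => c.flat_y) (fun _ => c.lfp_y) (fun z => ⟨PUnit.unit, hys.surj z⟩)
    (fun _ => (yon _).map qX ≫ p) (fun _ _ W g₁ g₂ e => by
      obtain ⟨b₁, rfl⟩ := exists_algHom g₁
      obtain ⟨b₂, rfl⟩ := exists_algHom g₂
      simp only [Category.assoc] at e
      have hb := affinisation_ext e
      have hθ : b₁.comp Algebra.TensorProduct.includeLeft = b₂.comp Algebra.TensorProduct.includeLeft := by
        refine specMap_injective ?_
        rw [← specMap_comp, ← specMap_comp, ← c.y_y', reassoc_of% hb]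
      obtain ⟨g, hg₁, hg₂⟩ := r.univY _ (b₁.comp Algebra.TensorProduct.includeLeft)
        (b₁.comp Algebra.TensorProduct.includeRight) (b₂.comp Algebra.TensorProduct.includeRight) (by
          unfold EqY
          rw [liftY_eta, hθ, liftY_eta]
          exact hb)
      rw [← Category.assoc, ← Category.assoc, ← Functor.map_comp, ← Functor.map_comp, Category.assoc, Category.assoc,
        specMap_comp, specMap_comp, ← hg₁, ← hg₂, ← specMap_comp, ← specMap_comp, ← Category.assoc, ← Category.assoc,
        Functor.map_comp _ _ t, Functor.map_comp _ _ s, Category.assoc, Category.assoc, hR.w])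
  refine ⟨Y, πY, a, b, ?_, ?_, ?_, fun B _ _ x₀ y₀ h => ?_⟩
  · -- separatedness
    have hQ := Y.property
    obtain ⟨T₂, pa, pb, ρ, hT₂, hra, hrb, hiso, sq⟩ := ASp.exists_chart_diag hR
    haveI := hiso
    haveI : MorphismProperty.ContainsIdentities @LocallyOfFinitePresentation.{u} := ⟨fun _ => inferInstance⟩
    haveI : MorphismProperty.IsMultiplicative @LocallyOfFinitePresentation.{u} := {}
    have hm : RepWith @Flat (prod.lift ((yon _).map pa) ((yon _).map pb) ≫ prod.map p p) ∧
        RepWith @LocallyOfFinitePresentation (prod.lift ((yon _).map pa) ((yon _).map pb) ≫ prod.map p p) ∧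
        RepWith @Surjective (prod.lift ((yon _).map pa) ((yon _).map pb) ≫ prod.map p p) :=
      ⟨ASp.repWith_comp (ASp.repWith_of_isIso (P := @Flat) _) (ASp.repWith_prodMap hpf hpf),
        ASp.repWith_comp (ASp.repWith_of_isIso (P := @LocallyOfFinitePresentation) _) (ASp.repWith_prodMap hpl hpl),
        ASp.repWith_comp (ASp.repWith_of_isIso (P := @Surjective) _) (ASp.repWith_prodMap hps hps)⟩
    have hcov : IsFpqcCover (fun _ : PUnit.{u+1} => (yon _).obj T₂)
        (fun _ => prod.lift ((yon _).map pa) ((yon _).map pb) ≫ prod.map p p) :=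
      ASp.isFpqcCover_of_fppf (ASp.isAlgSpace_prod hQ hQ) (fun _ => IsAlgSpace.yon_obj T₂)
        (fun _ => ASp.locP_of_repWith hm.1) (fun _ => ASp.locP_of_repWith hm.2.1)
        (fun z => ⟨PUnit.unit, ASp.surjective_map_of_repWith hm.2.2 z⟩)
    haveI : IsClosedImmersion ρ.left := by
      have hN := (isPullback_SpecMap_of_isPushout _ _ _ _ (CommRingCat.isPushout_tensorProduct R c.T c.T))
      let e := hT₂.isoIsPullback _ _ hN
      have he : ρ.left ≫ e.hom = Spec.map (CommRingCat.ofHom q.toRingHom) := by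
        refine hN.hom_ext ?_ ?_
        · rw [Category.assoc, show e.hom ≫ _ = _ from hT₂.isoIsPullback_hom_fst _ _ hN, ← Over.comp_left, hra, ← Spec.map_comp]
          exact congrArg (fun g => Spec.map (CommRingCat.ofHom (AlgHom.toRingHom g))) hq₁.symm
        · rw [Category.assoc, show e.hom ≫ _ = _ from hT₂.isoIsPullback_hom_snd _ _ hN, ← Over.comp_left, hrb, ← Spec.map_comp]
          exact congrArg (fun g => Spec.map (CommRingCat.ofHom (AlgHom.toRingHom g))) hq₂.symm
      haveI : IsClosedImmersion (Spec.map (CommRingCat.ofHom q.toRingHom)) :=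
        IsClosedImmersion.spec_of_surjective (CommRingCat.ofHom q.toRingHom) r.surj
      rw [show ρ.left = Spec.map (CommRingCat.ofHom q.toRingHom) ≫ e.inv by rw [← he, Category.assoc, e.hom_inv_id, Category.comp_id]]
      infer_instance
    haveI := Groth.Agent.FpqcDesc.isClosedImmersion_descends.{u}
    exact ASp.repWith_of_fpqc hQ.diag (fun _ : PUnit.{u+1} => sq) hcov
      fun _ => ASp.repWith_yon_map ‹IsClosedImmersion ρ.left›
  · obtain ⟨oU, hoU⟩ := specMap_surjective (c.x ≫ d.v)
    let Gf := Localization.Away (algebraMap R r.G f)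
    let iG : r.G →ₐ[R] Gf := IsScalarTower.toAlgHom R r.G Gf
    have huG : IsUnit (algebraMap R Gf f) := by
      rw [IsScalarTower.algebraMap_apply R r.G Gf]
      exact IsLocalization.Away.algebraMap_isUnit _
    obtain ⟨l₁, hl₁⟩ := exists_liftX c huG (iG.comp r.j₁)
    obtain ⟨l₂, hl₂⟩ := exists_liftX c huG (iG.comp r.j₂)
    obtain ⟨oG, hoG⟩ : ∃ o : Localization.Away f →ₐ[R] Gf, o = l₁.comp oU := ⟨_, rfl⟩
    exact isPullback_piece hpf hpl hps hR πY tU (ASp.isPullback_yon_map (isPullback_away c.T oU tU))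
      (ASp.isPullback_yon_map (isPullback_away r.G oG tU)) (specMap l₁) (specMap l₂)
      (by rw [specMap_comp, specMap_comp]; exact congrArg specMap hl₁)
      (by rw [specMap_comp, specMap_comp]; exact congrArg specMap hl₂)
      (by rw [specMap_comp]; exact congrArg specMap (algHom_away_ext _ _))
      (by rw [specMap_comp]; exact congrArg specMap (algHom_away_ext _ _))
      (r.eqX Gf huG iG l₁ l₂ hl₁ hl₂) d.v hoU.symm a (ha PUnit.unit)
  · let m₁ : R' ⊗[R] c.T →ₐ[R] R' ⊗[R] r.G := Algebra.TensorProduct.map (AlgHom.id R R') r.j₁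
    let m₂ : R' ⊗[R] c.T →ₐ[R] R' ⊗[R] r.G := Algebra.TensorProduct.map (AlgHom.id R R') r.j₂
    have hm : ∀ j : c.T →ₐ[R] r.G, Algebra.TensorProduct.map (AlgHom.id R R') j =
        liftY c Algebra.TensorProduct.includeLeft (Algebra.TensorProduct.includeRight.comp j) := fun j => by
      rw [← liftY_eta c (Algebra.TensorProduct.map (AlgHom.id R R') j), Algebra.TensorProduct.map_comp_includeLeft,
        Algebra.TensorProduct.map_comp_includeRight, AlgHom.comp_id]
    exact isPullback_piece hpf hpl hps hR πY tX (ASp.isPullback_yon_map (isPullback_tensor c.T tX))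
      (ASp.isPullback_yon_map (isPullback_tensor r.G tX)) (specMap m₁) (specMap m₂)
      (by rw [specMap_comp, specMap_comp]; exact congrArg specMap (Algebra.TensorProduct.map_comp_includeRight _ _))
      (by rw [specMap_comp, specMap_comp]; exact congrArg specMap (Algebra.TensorProduct.map_comp_includeRight _ _))
      (by rw [specMap_comp, Algebra.TensorProduct.map_comp_includeLeft, AlgHom.comp_id])
      (by rw [specMap_comp, Algebra.TensorProduct.map_comp_includeLeft, AlgHom.comp_id])
      (by
        show specMap m₁ ≫ c.y = specMap m₂ ≫ c.y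
        rw [show m₁ = _ from hm r.j₁, show m₂ = _ from hm r.j₂]
        exact r.eqY) d.y' c.y_y' b (hb PUnit.unit)
  · -- compatibility
    let W := pullback x₀ c.x
    let π₁ := pullback.fst x₀ c.x
    let π₂ := pullback.snd x₀ c.x
    have hsq := ASp.isPullback_left (IsPullback.of_hasPullback x₀ c.x)
    have h1 : Flat π₁.left := MorphismProperty.of_isPullback hsq.flip c.flat_x
    have h2 : LocallyOfFinitePresentation π₁.left := MorphismProperty.of_isPullback hsq.flip c.lfp_x
    have h3 : Surjective π₁.left := MorphismProperty.of_isPullback hsq.flip hxs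
    refine ASp.hom_ext_fppf (ι := PUnit.{u+1}) (U := fun _ => W) (c := fun _ => π₁) (fun _ => h1) (fun _ => h2)
      (fun z => ⟨PUnit.unit, h3.surj z⟩) fun _ => ?_
    obtain ⟨φ, hφ⟩ := exists_algHom π₁
    obtain ⟨β, hβ⟩ := exists_algHom π₂
    have hx : specMap φ ≫ x₀ = specMap β ≫ c.x := affinisation_ext (by
      rw [reassoc_of% hφ, reassoc_of% hβ]; exact pullback.condition)
    obtain ⟨θ, hθ⟩ := specMap_surjective ((specMap φ ≫ y₀) ≫ d.y')
    have hrel := c.rel _ β (liftY c θ (β.comp (iTf c))) (liftY_inr c _ _).symm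
    have h' := d.rel_comp (specMap φ) h
    rw [hx] at h'
    have hy : specMap φ ≫ y₀ = specMap (liftY c θ (β.comp (iTf c))) ≫ c.y :=
      d.rel_right_unique h' hrel (by
        rw [← hθ, Category.assoc, c.y_y', specMap_comp, liftY_inl])
    rw [← Category.assoc, ← Category.assoc, ← Functor.map_comp, ← Functor.map_comp, ← hφ, Category.assoc,
      Category.assoc, hx, hy, ← Category.assoc (toAffinisation W), ← Category.assoc (toAffinisation W),
      Functor.map_comp _ _ c.x, Functor.map_comp _ _ c.y, Category.assoc, Category.assoc, ha PUnit.unit, hb PUnit.unit,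
      ← Category.assoc, ← Category.assoc, ← Functor.map_comp, ← Functor.map_comp, Category.assoc, Category.assoc]
    show _ = (yon _).map (toAffinisation W ≫ specMap (liftY c θ (β.comp (iTf c))) ≫
      specMap Algebra.TensorProduct.includeRight) ≫ p
    rw [specMap_comp (Algebra.TensorProduct.includeRight : c.T →ₐ[R] R' ⊗[R] c.T), liftY_inr]
    show (yon _).map (toAffinisation W ≫ specMap β ≫ specMap (iTf c)) ≫ p = _
    rw [specMap_comp]

end Groth.Agent.QAGlueLib

end
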