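import Groth.Agent.QAGlueLib.Cover

/-! Self fibre products of affine schemes over quasi-affine schemes. -/

set_option autoImplicit false
set_option linter.style.haveILetI false
set_option backward.isDefEq.respectTransparency false
set_option backward.isDefEq.respectTransparency.types false
set_option maxHeartbeats 800000

universe u

open CategoryTheory CategoryTheory.Limits AlgebraicGeometry TensorProduct

noncomputable section

namespace Groth.Agent.QAGlueLib

open _root_.AlgSp Groth.Agent.AlgSpGlue Groth.Agent.GlueEqLib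

variable {R : Type u} [CommRing R] {X : Over (Spec (CommRingCat.of R))} {A E : Type u} [CommRing A] [Algebra R A]
  [CommRing E] [Algebra R E] (z : specOver R A ⟶ X) (l₁ l₂ : A →ₐ[R] E)

/-- The equations of `z ∘ l₁ = z ∘ l₂`. -/
def pairIdeal : Ideal E := Ideal.span (Set.range fun r => l₁ (pull z r) - l₂ (pull z r))

theorem pairIdeal_le_ker [X.left.IsQuasiAffine] {B : Type u} [CommRing B] [Algebra R B] (ω : E →ₐ[R] B)
    (h : specMap (ω.comp l₁) ≫ z = specMap (ω.comp l₂) ≫ z) : pairIdeal z l₁ l₂ ≤ RingHom.ker ω.toRingHom := by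
  refine Ideal.span_le.2 ?_
  rintro _ ⟨r, rfl⟩
  have h1 := congrArg (fun m => pull m r) h
  simp only [pull_comp] at h1
  show ω (l₁ (pull z r) - l₂ (pull z r)) = 0
  rw [map_sub, sub_eq_zero]
  exact h1

theorem pair_point_eq [X.left.IsQuasiAffine] {B : Type u} [CommRing B] [Algebra R B] (ω : E →ₐ[R] B)
    (h : pairIdeal z l₁ l₂ ≤ RingHom.ker ω.toRingHom) :
    specMap (ω.comp l₁) ≫ z = specMap (ω.comp l₂) ≫ z := by
  refine point_ext (RingHom.ext fun r => ?_)
  rw [pull_comp, pull_comp]
  have h1 := h (Ideal.subset_span ⟨r, rfl⟩)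
  rw [RingHom.mem_ker, map_sub, sub_eq_zero] at h1
  exact h1

/-- The universal pair of points gives the fibre product. -/
theorem isPullback_pair [X.left.IsQuasiAffine] (h : specMap l₁ ≫ z = specMap l₂ ≫ z)
    (hu : ∀ (B : Type u) [CommRing B] [Algebra R B] (t₁ t₂ : A →ₐ[R] B), specMap t₁ ≫ z = specMap t₂ ≫ z →
      ∃! ω : E →ₐ[R] B, ω.comp l₁ = t₁ ∧ ω.comp l₂ = t₂) :
    IsPullback (specMap l₁).left (specMap l₂).left z.left z.left := by
  have hl : l₁.toRingHom.comp (pull z) = l₂.toRingHom.comp (pull z) := by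
    rw [← pull_comp, ← pull_comp, h]
  have hpo : IsPushout (CommRingCat.ofHom (pull z)) (CommRingCat.ofHom (pull z)) (CommRingCat.ofHom l₁.toRingHom)
      (CommRingCat.ofHom l₂.toRingHom) := by
    refine IsPushout.of_isColimit' ⟨CommRingCat.hom_ext hl⟩ (PushoutCocone.isColimitAux' _ fun s => ?_)
    have hs : s.inl.hom.comp (pull z) = s.inr.hom.comp (pull z) := congrArg CommRingCat.Hom.hom s.condition
    letI : Algebra R s.pt := (s.inl.hom.comp (algebraMap R A)).toAlgebra
    let t₁ : A →ₐ[R] s.pt := { s.inl.hom with commutes' := fun r => rfl }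
    let t₂ : A →ₐ[R] s.pt :=
      { s.inr.hom with
        commutes' := fun r => by
          show s.inr.hom (algebraMap R A r) = s.inl.hom (algebraMap R A r)
          rw [← pull_str z]
          exact (RingHom.congr_fun hs _).symm }
    have ht : specMap t₁ ≫ z = specMap t₂ ≫ z := point_ext (by rw [pull_comp, pull_comp]; exact hs)
    have he := hu s.pt t₁ t₂ ht
    refine ⟨CommRingCat.ofHom he.exists.choose.toRingHom,
      CommRingCat.hom_ext (congrArg AlgHom.toRingHom he.exists.choose_spec.1),
      CommRingCat.hom_ext (congrArg AlgHom.toRingHom he.exists.choose_spec.2), fun {m} hm₁ hm₂ => ?_⟩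
    have h₁ : ∀ a, m.hom (l₁ a) = t₁ a := fun a => RingHom.congr_fun (congrArg CommRingCat.Hom.hom hm₁) a
    have h₂ : ∀ a, m.hom (l₂ a) = t₂ a := fun a => RingHom.congr_fun (congrArg CommRingCat.Hom.hom hm₂) a
    let mA : E →ₐ[R] s.pt :=
      { m.hom with
        commutes' := fun r => by
          show m.hom (algebraMap R E r) = _
          rw [← l₁.commutes, h₁, t₁.commutes] }
    have e : mA = he.exists.choose := he.unique ⟨AlgHom.ext h₁, AlgHom.ext h₂⟩ he.exists.choose_spec
    exact CommRingCat.hom_ext (congrArg AlgHom.toRingHom e)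
  have hsq := isPullback_SpecMap_of_isPushout _ _ _ _ hpo
  refine IsPullback.of_isLimit' ⟨congrArg (fun m => m.left) h⟩
    (PullbackCone.IsLimit.mk _ (fun s => hsq.lift s.fst s.snd ?_) (fun s => hsq.lift_fst _ _ _)
      (fun s => hsq.lift_snd _ _ _) (fun s m hm₁ hm₂ => hsq.hom_ext ?_ ?_))
  · rw [← comp_toSpecΓ z, ← Category.assoc, ← Category.assoc, s.condition]
  · exact hm₁.trans (hsq.lift_fst _ _ _).symm
  · exact hm₂.trans (hsq.lift_snd _ _ _).symm

/-- Flatness and finite presentation of the legs. -/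
theorem flat_fp_pair [X.left.IsQuasiAffine] (hf : Flat z.left) (hlfp : LocallyOfFinitePresentation z.left)
    (h : specMap l₁ ≫ z = specMap l₂ ≫ z)
    (hu : ∀ (B : Type u) [CommRing B] [Algebra R B] (t₁ t₂ : A →ₐ[R] B), specMap t₁ ≫ z = specMap t₂ ≫ z →
      ∃! ω : E →ₐ[R] B, ω.comp l₁ = t₁ ∧ ω.comp l₂ = t₂) :
    (l₁.toRingHom.Flat ∧ l₁.toRingHom.FinitePresentation) ∧ (l₂.toRingHom.Flat ∧ l₂.toRingHom.FinitePresentation) := by
  have hP := isPullback_pair z l₁ l₂ h hu
  have a1 : Flat (specMap l₁).left := MorphismProperty.of_isPullback (P := @Flat) hP.flip hf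
  have a2 : Flat (specMap l₂).left := MorphismProperty.of_isPullback (P := @Flat) hP hf
  have b1 : LocallyOfFinitePresentation (specMap l₁).left :=
    MorphismProperty.of_isPullback (P := @LocallyOfFinitePresentation) hP.flip hlfp
  have b2 : LocallyOfFinitePresentation (specMap l₂).left :=
    MorphismProperty.of_isPullback (P := @LocallyOfFinitePresentation) hP hlfp
  exact ⟨⟨(HasRingHomProperty.Spec_iff (P := @Flat)).1 a1,
      (HasRingHomProperty.Spec_iff (P := @LocallyOfFinitePresentation)).1 b1⟩,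
    (HasRingHomProperty.Spec_iff (P := @Flat)).1 a2,
    (HasRingHomProperty.Spec_iff (P := @LocallyOfFinitePresentation)).1 b2⟩

end Groth.Agent.QAGlueLib

end
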