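import Groth.Agent.QAGlueLib.Data
import Groth.Agent.QAGlueLib.Cover

/-! The cover of `V` moved to `Y'`, over an affine basic open of `Y'`. -/

set_option autoImplicit false
set_option linter.style.haveILetI false
set_option backward.isDefEq.respectTransparency false
set_option backward.isDefEq.respectTransparency.types false
set_option maxHeartbeats 1600000

universe u

open CategoryTheory CategoryTheory.Limits AlgebraicGeometry TensorProduct

noncomputable section

namespace Groth.Agent.QAGlueLib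

open _root_.AlgSp Groth.Agent.AlgSpGlue Groth.Agent.GlueEqLib

variable {R R' : Type u} [CommRing R] [CommRing R'] [Algebra R R'] {f : R}

theorem pull_comp_right {X Y : Over (Spec (CommRingCat.of R))} {B : Type u} [CommRing B] [Algebra R B]
    (z : specOver R B ⟶ X) (g : X ⟶ Y) : pull (z ≫ g) = (pull z).comp g.left.appTop.hom := rfl

theorem pull_specMap {A B : Type u} [CommRing A] [Algebra R A] [CommRing B] [Algebra R B] (θ : A →ₐ[R] B) :
    pull (specMap θ) = θ.toRingHom.comp (Scheme.ΓSpecIso (CommRingCat.of A)).hom.hom :=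
  congrArg CommRingCat.Hom.hom (Scheme.ΓSpecIso_naturality (CommRingCat.ofHom θ.toRingHom))

theorem specMap_comp_assoc {X : Over (Spec (CommRingCat.of R))} {A B C : Type u} [CommRing A] [Algebra R A]
    [CommRing B] [Algebra R B] [CommRing C] [Algebra R C] (φ : A →ₐ[R] B) (ψ : B →ₐ[R] C) (x : specOver R A ⟶ X) :
    specMap ψ ≫ specMap φ ≫ x = specMap (ψ.comp φ) ≫ x := by
  rw [← Category.assoc, specMap_comp]

/-- An affine point of a scheme factors through an open subscheme containing its image. -/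
theorem exists_lift_of_range {X : Over (Spec (CommRingCat.of R))} {D B : Type u} [CommRing D] [Algebra R D]
    [CommRing B] [Algebra R B] (j : specOver R D ⟶ X) [IsOpenImmersion j.left] (z : specOver R B ⟶ X)
    (h : Set.range z.left ⊆ Set.range j.left) : ∃ δ : D →ₐ[R] B, specMap δ ≫ j = z := by
  obtain ⟨δ, hδ⟩ := specMap_surjective (Over.homMk (U := specOver R B) (V := specOver R D)
    (IsOpenImmersion.lift j.left z.left h) (by rw [← Over.w j, IsOpenImmersion.lift_fac_assoc]; exact Over.w z))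
  exact ⟨δ, Over.OverMorphism.ext (by rw [hδ]; exact IsOpenImmersion.lift_fac _ _ _)⟩

theorem point_unique {X : Over (Spec (CommRingCat.of R))} {D B : Type u} [CommRing D] [Algebra R D] [CommRing B]
    [Algebra R B] (j : specOver R D ⟶ X) [IsOpenImmersion j.left] {δ δ' : D →ₐ[R] B}
    (h : specMap δ ≫ j = specMap δ' ≫ j) : δ = δ' := by
  apply specMap_injective
  ext1
  rw [← cancel_mono j.left]
  exact congrArg (fun m => m.left) h

/-- A property local on the source holds if it holds on the members of an open cover. -/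
theorem prop_of_cover {P : MorphismProperty Scheme.{u}} [IsZariskiLocalAtSource P] {X Y : Scheme.{u}} (g : X ⟶ Y)
    {ι : Type u} (U : ι → Scheme.{u}) (j : ∀ i, U i ⟶ X) [∀ i, IsOpenImmersion (j i)]
    (hj : ∀ x, ∃ i, x ∈ Set.range (j i)) (h : ∀ i, P (j i ≫ g)) : P g := by
  refine IsZariskiLocalAtSource.of_iSup_eq_top (fun i => (j i).opensRange) ?_ fun i => ?_
  · refine top_le_iff.1 fun x _ => ?_
    obtain ⟨i, hi⟩ := hj x
    exact TopologicalSpace.Opens.mem_iSup.2 ⟨i, hi⟩
  · rw [← IsOpenImmersion.isoOfRangeEq_inv_fac (j i) (Scheme.Opens.ι _)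
      (congr_arg TopologicalSpace.Opens.carrier (j i).opensRange.opensRange_ι.symm), Category.assoc,
      P.cancel_left_of_respectsIso]
    exact h i

/-- The ring map from `R'` to the functions of `Y'`. -/
def pullR (d : Data R R' f) : R' →+* Γ(d.Y'.left, ⊤) :=
  d.y'.left.appTop.hom.comp (Scheme.ΓSpecIso (CommRingCat.of R')).inv.hom

theorem pull_pullR (d : Data R R' f) {B : Type u} [CommRing B] [Algebra R B] (z : specOver R B ⟶ d.Y')
    (θ : R' →ₐ[R] B) (h : z ≫ d.y' = specMap θ) (r : R') : pull z (pullR d r) = θ r := by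
  have := RingHom.congr_fun ((pull_comp_right z d.y').symm.trans (congrArg pull h))
    ((Scheme.ΓSpecIso (CommRingCat.of R')).inv.hom r)
  rw [pull_specMap] at this
  refine this.trans ?_
  show θ ((Scheme.ΓSpecIso (CommRingCat.of R')).hom.hom _) = θ r
  congr 1
  exact ConcreteCategory.congr_hom (Scheme.ΓSpecIso (CommRingCat.of R')).inv_hom_id r

/-- An affine basic open of `Y'`. -/
structure Piece (d : Data R R' f) (a : Γ(d.Y'.left, ⊤)) where
  D : Type u
  [ring : CommRing D]
  [alg : Algebra R D]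
  [alg' : Algebra R' D]
  [tower : IsScalarTower R R' D]
  j : specOver R D ⟶ d.Y'
  [open_j : IsOpenImmersion j.left]
  range_j : Set.range j.left = (d.Y'.left.basicOpen a : Set d.Y'.left)
  j_y' : j ≫ d.y' = specMap (IsScalarTower.toAlgHom R R' D)
  unit : IsUnit (pull j a)

attribute [instance] Piece.ring Piece.alg Piece.alg' Piece.tower Piece.open_j

theorem exists_piece (d : Data R R' f) (a : Γ(d.Y'.left, ⊤)) (ha : IsAffineOpen (d.Y'.left.basicOpen a)) :
    Nonempty (Piece d a) := by
  let U := d.Y'.left.basicOpen a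
  haveI : IsAffine (Over.mk (U.ι ≫ d.Y'.hom)).left := ha
  obtain ⟨D, _, _, ⟨ε⟩⟩ := exists_specIso (Over.mk (U.ι ≫ d.Y'.hom))
  let j : specOver R D ⟶ d.Y' := ε.hom ≫ Over.homMk U.ι rfl
  haveI : IsIso ε.hom.left := inferInstanceAs (IsIso ((Over.forget _).map ε.hom))
  haveI : IsOpenImmersion j.left := by
    show IsOpenImmersion (ε.hom.left ≫ U.ι)
    infer_instance
  obtain ⟨θ, hθ⟩ := specMap_surjective (j ≫ d.y')
  letI : Algebra R' D := θ.toRingHom.toAlgebra
  haveI : IsScalarTower R R' D := IsScalarTower.of_algebraMap_eq fun r => (θ.commutes r).symm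
  have hr : Set.range j.left = (U : Set d.Y'.left) := by
    show Set.range (ε.hom.left ≫ U.ι) = _
    rw [Scheme.Hom.comp_base, TopCat.coe_comp, Set.range_comp,
      (show Function.Surjective ε.hom.left from (Scheme.homeoOfIso (asIso ε.hom.left)).surjective).range_eq,
      Set.image_univ]
    exact U.range_ι
  refine ⟨{ D := D, j := j, range_j := hr, j_y' := hθ.symm.trans (congrArg _ (AlgHom.ext fun _ => rfl)),
            unit := ?_ }⟩
  by_contra hu
  obtain ⟨m, hm, hmem⟩ := exists_max_ideal_of_mem_nonunits (mem_nonunits_iff.2 hu)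
  exact (mem_basicOpen_iff j a ⟨m, hm.isPrime⟩).1 (hr.le (Set.mem_range_self _)) hmem

/-- Over each affine point the cover is an affine space. -/
def IsUnivCover {V : Over (Spec (CommRingCat.of R))} {P : Type u} [CommRing P] [Algebra R P]
    (p : specOver R P ⟶ V) (n : ℕ) : Prop :=
  ∀ (L : Type u) [CommRing L] [Algebra R L] (x : specOver R L ⟶ V),
    ∃ φ : P →ₐ[R] MvPolynomial (Fin n) L,
      specMap φ ≫ p = specMap (IsScalarTower.toAlgHom R L (MvPolynomial (Fin n) L)) ≫ x ∧
      ∀ (B : Type u) [CommRing B] [Algebra R B] (α : L →ₐ[R] B) (π : P →ₐ[R] B),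
        specMap π ≫ p = specMap α ≫ x → ∃! ψ : MvPolynomial (Fin n) L →ₐ[R] B,
          ψ.comp (IsScalarTower.toAlgHom R L (MvPolynomial (Fin n) L)) = α ∧ ψ.comp φ = π

variable (d : Data R R' f) {P : Type u} [CommRing P] [Algebra R P] (p : specOver R P ⟶ d.V)

/-- The cover moved to `Y'`. -/
def yP : specOver R (R' ⊗[R] P) ⟶ d.Y' :=
  d.toY (specMap Algebra.TensorProduct.includeRight ≫ p) Algebra.TensorProduct.includeLeft

theorem yP_y' : yP d p ≫ d.y' = specMap (Algebra.TensorProduct.includeLeft : R' →ₐ[R] R' ⊗[R] P) :=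
  d.toY_y' _ _

theorem rel_yP : d.Rel (specMap (Algebra.TensorProduct.includeRight : P →ₐ[R] R' ⊗[R] P) ≫ p) (yP d p) :=
  d.rel_toY _ _

/-- Localised piece. -/
abbrev Piece.L {a : Γ(d.Y'.left, ⊤)} (pc : Piece d a) : Type u := Localization.Away (algebraMap R pc.D f)

variable {p} {n : ℕ}

theorem exists_overlap_aux {a : Γ(d.Y'.left, ⊤)} (pc : Piece d a) {L LZ : Type u} [CommRing L] [Algebra R L]
    [CommRing LZ] [Algebra R LZ] [Algebra R' LZ] [IsScalarTower R R' LZ] (iL : pc.D →ₐ[R] L) (C : L →ₐ[R] LZ)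
    (hθ' : ∀ r, C (iL (algebraMap R' pc.D r)) = algebraMap R' LZ r)
    (hlift : ∀ (B : Type u) [CommRing B] [Algebra R B] (δ : pc.D →ₐ[R] B), IsUnit (algebraMap R B f) →
      ∃ α : L →ₐ[R] B, α.comp iL = δ)
    (hext : ∀ (B : Type u) [CommRing B] [Algebra R B] (α β : L →ₐ[R] B), α.comp iL = β.comp iL → α = β)
    (hL : IsUnit (algebraMap R L f)) (φ : P →ₐ[R] LZ)
    (hφ : specMap φ ≫ p = specMap C ≫ d.toV (specMap iL ≫ pc.j) hL)
    (huniv : ∀ (B : Type u) [CommRing B] [Algebra R B] (α : L →ₐ[R] B) (π : P →ₐ[R] B),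
      specMap π ≫ p = specMap α ≫ d.toV (specMap iL ≫ pc.j) hL →
        ∃! ψ : LZ →ₐ[R] B, ψ.comp C = α ∧ ψ.comp φ = π) :
    ∃ σ : R' ⊗[R] P →ₐ[R'] LZ,
      (letI := σ.toRingHom.toAlgebra; IsLocalization.Away (pull (yP d p) a) LZ) ∧
      specMap (σ.restrictScalars R) ≫ yP d p = specMap (C.comp iL) ≫ pc.j := by
  let P' := R' ⊗[R] P
  let xL := d.toV (specMap iL ≫ pc.j) hL
  let χ : P' →ₐ[R'] LZ := Algebra.TensorProduct.lift (Algebra.ofId R' LZ) φ fun _ _ => Commute.all _ _
  let χR : P' →ₐ[R] LZ := χ.restrictScalars R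
  have hχr : χR.comp Algebra.TensorProduct.includeRight = φ := AlgHom.ext fun x => by
    show χ ((1 : R') ⊗ₜ[R] x) = φ x
    rw [Algebra.TensorProduct.lift_tmul, map_one, one_mul]
  have hχl : χR.comp (Algebra.TensorProduct.includeLeft : R' →ₐ[R] P') = IsScalarTower.toAlgHom R R' LZ :=
    AlgHom.ext fun r => χ.commutes r
  have hθ : (C.comp iL).comp (IsScalarTower.toAlgHom R R' pc.D) = IsScalarTower.toAlgHom R R' LZ :=
    AlgHom.ext hθ'
  have hχj : specMap χR ≫ yP d p = specMap (C.comp iL) ≫ pc.j := by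
    have h1 := d.rel_comp (specMap χR) (rel_yP d p)
    rw [specMap_comp_assoc, hχr, hφ] at h1
    have h2 := d.rel_comp (specMap C) (d.rel_toV (specMap iL ≫ pc.j) hL)
    rw [specMap_comp_assoc] at h2
    refine d.rel_right_unique h1 h2 ?_
    rw [Category.assoc, yP_y', Category.assoc, pc.j_y', specMap_comp, specMap_comp, hχl, hθ]
  let c := pull (yP d p) a
  have hc : IsUnit (χ c) := by
    have e1 : χ c = pull (specMap χR ≫ yP d p) a := (RingHom.congr_fun (pull_comp (yP d p) χR) a).symm
    rw [e1, hχj, pull_comp]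
    exact pc.unit.map (C.comp iL).toRingHom
  let Pc := Localization.Away c
  let iP : P' →ₐ[R] Pc := IsScalarTower.toAlgHom R P' Pc
  have hu : ∀ y : Submonoid.powers c, IsUnit (χ y) := by
    rintro ⟨_, k, rfl⟩
    show IsUnit (χ (c ^ k))
    rw [map_pow]
    exact hc.pow k
  let χc : Pc →ₐ[R'] LZ := IsLocalization.liftAlgHom hu
  have hχc : ∀ x : P', χc (iP x) = χ x := fun x => IsLocalization.lift_eq _ x
  let π : P →ₐ[R] Pc := iP.comp Algebra.TensorProduct.includeRight
  obtain ⟨δ, hδ⟩ := exists_lift_of_range pc.j (specMap iP ≫ yP d p) (by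
    rintro _ ⟨q, rfl⟩
    rw [pc.range_j, SetLike.mem_coe, mem_basicOpen_iff, pull_comp]
    exact fun h => q.isPrime.ne_top (Ideal.eq_top_of_isUnit_mem _ h (IsLocalization.Away.algebraMap_isUnit c)))
  have hδθ : ∀ r, δ (algebraMap R' pc.D r) = algebraMap R' Pc r := by
    intro r
    have h1 : specMap (δ.comp (IsScalarTower.toAlgHom R R' pc.D)) =
        specMap (iP.comp (Algebra.TensorProduct.includeLeft : R' →ₐ[R] P')) := by
      rw [← specMap_comp, ← specMap_comp, ← pc.j_y', ← yP_y' d p, reassoc_of% hδ]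
    refine (AlgHom.congr_fun (specMap_injective h1) r).trans ?_
    exact (IsScalarTower.algebraMap_apply R' P' Pc r).symm
  have hf : IsUnit (algebraMap R Pc f) := d.isUnit_of_V (specMap π ≫ p)
  obtain ⟨α, hα⟩ := hlift Pc δ hf
  have hπ : specMap π ≫ p = specMap α ≫ xL := by
    have h1 := d.rel_comp (specMap iP) (rel_yP d p)
    rw [specMap_comp_assoc] at h1
    have h2 := d.rel_comp (specMap α) (d.rel_toV (specMap iL ≫ pc.j) hL)
    rw [specMap_comp_assoc, hα, hδ] at h2
    exact d.rel_left_unique h1 h2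
  obtain ⟨ψ, ⟨hψC, hψφ⟩, -⟩ := huniv Pc α π hπ
  let χcR : Pc →ₐ[R] LZ := χc.restrictScalars R
  have hcomp1 : χcR.comp δ = C.comp iL := by
    refine point_unique pc.j ?_
    rw [← specMap_comp_assoc, hδ, specMap_comp_assoc, ← hχj]
    congr 2
    exact AlgHom.ext hχc
  have h1 : χcR.comp ψ = AlgHom.id R LZ := by
    refine (huniv LZ C φ hφ).unique ⟨?_, ?_⟩ ⟨AlgHom.id_comp _, AlgHom.id_comp _⟩
    · rw [AlgHom.comp_assoc, hψC]
      refine hext LZ _ _ ?_
      rw [AlgHom.comp_assoc, hα, hcomp1]
    · rw [AlgHom.comp_assoc, hψφ, ← hχr, ← AlgHom.comp_assoc]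
      congr 1
      exact AlgHom.ext hχc
  have h2 : ψ.comp χcR = AlgHom.id R Pc := by
    refine IsLocalization.algHom_ext (Submonoid.powers c) ?_
    refine Algebra.TensorProduct.ext (AlgHom.ext fun r => ?_) (AlgHom.ext fun x => ?_)
    · show ψ (χc (iP (algebraMap R' P' r))) = iP (algebraMap R' P' r)
      rw [hχc, χ.commutes, show algebraMap R' LZ r = C (iL (algebraMap R' pc.D r)) from (AlgHom.congr_fun hθ r).symm]
      rw [show ψ (C (iL (algebraMap R' pc.D r))) = δ (algebraMap R' pc.D r) from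
        (AlgHom.congr_fun hψC _).trans (AlgHom.congr_fun hα _), hδθ]
      exact IsScalarTower.algebraMap_apply R' P' Pc r
    · show ψ (χc (iP ((1 : R') ⊗ₜ[R] x))) = iP ((1 : R') ⊗ₜ[R] x)
      rw [hχc, show χ ((1 : R') ⊗ₜ[R] x) = φ x from AlgHom.congr_fun hχr x]
      exact AlgHom.congr_fun hψφ x
  letI : Algebra P' LZ := χ.toRingHom.toAlgebra
  let e : Pc ≃ₐ[P'] LZ := AlgEquiv.ofBijective ({ χc.toRingHom with commutes' := hχc } : Pc →ₐ[P'] LZ)
    ⟨Function.LeftInverse.injective (g := ψ) (AlgHom.congr_fun h2),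
      Function.RightInverse.surjective (g := ψ) (AlgHom.congr_fun h1)⟩
  exact ⟨χ, IsLocalization.isLocalization_of_algEquiv (Submonoid.powers c) e, hχj⟩

theorem exists_overlap (hp : IsUnivCover p n) {a : Γ(d.Y'.left, ⊤)} (pc : Piece d a) :
    ∃ σ : R' ⊗[R] P →ₐ[R'] MvPolynomial (Fin n) pc.L,
      (letI := σ.toRingHom.toAlgebra; IsLocalization.Away (pull (yP d p) a) (MvPolynomial (Fin n) pc.L)) ∧
      specMap (σ.restrictScalars R) ≫ yP d p =
        specMap ((IsScalarTower.toAlgHom R pc.L (MvPolynomial (Fin n) pc.L)).comp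
          (IsScalarTower.toAlgHom R pc.D pc.L)) ≫ pc.j := by
  have hL : IsUnit (algebraMap R pc.L f) := by
    rw [IsScalarTower.algebraMap_apply R pc.D pc.L]
    exact IsLocalization.Away.algebraMap_isUnit _
  obtain ⟨φ, hφ, huniv⟩ := hp pc.L (d.toV (specMap (IsScalarTower.toAlgHom R pc.D pc.L) ≫ pc.j) hL)
  refine exists_overlap_aux d pc _ _ (fun r => ?_) (fun B _ _ δ hu => ?_) (fun B _ _ α β h => ?_) hL φ hφ huniv
  · show algebraMap pc.L _ (algebraMap pc.D pc.L (algebraMap R' pc.D r)) = _
    rw [← IsScalarTower.algebraMap_apply R' pc.D pc.L, ← IsScalarTower.algebraMap_apply R' pc.L]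
  · have hu' : ∀ y : Submonoid.powers (algebraMap R pc.D f), IsUnit (δ y) := by
      rintro ⟨_, k, rfl⟩
      show IsUnit (δ (algebraMap R pc.D f ^ k))
      rw [map_pow, AlgHom.commutes]
      exact hu.pow k
    exact ⟨IsLocalization.liftAlgHom hu', AlgHom.ext fun x => IsLocalization.lift_eq _ x⟩
  · exact IsLocalization.algHom_ext (Submonoid.powers (algebraMap R pc.D f)) h

theorem isOpenImmersion_of_away {A B : Type u} [CommRing A] [Algebra R A] [CommRing B] [Algebra R B]
    (φ : A →ₐ[R] B) (c : A) (h : letI := φ.toRingHom.toAlgebra; IsLocalization.Away c B) :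
    IsOpenImmersion (specMap φ).left ∧ Set.range (specMap φ).left =
      ((PrimeSpectrum.basicOpen c : TopologicalSpace.Opens (PrimeSpectrum A)) : Set (PrimeSpectrum A)) := by
  letI := φ.toRingHom.toAlgebra
  haveI := h
  exact ⟨IsOpenImmersion.of_isLocalization c, PrimeSpectrum.localization_away_comap_range B c⟩

/-- The cover moved to `Y'` is flat and locally of finite presentation. -/
theorem flat_lfp_yP (hp : IsUnivCover p n) :
    Flat (yP d p).left ∧ LocallyOfFinitePresentation (yP d p).left := by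
  classical
  haveI := d.qaY
  obtain ⟨k, a, haff, hcov⟩ := exists_finite_cover d.Y'.left
  let pc : ∀ i, Piece d (a i) := fun i => (exists_piece d (a i) (haff i)).some
  choose σ hσ hσj using fun i : ULift.{u} (Fin k) => exists_overlap d hp (pc i.down)
  have ho := fun i => isOpenImmersion_of_away ((σ i).restrictScalars R) _ (hσ i)
  haveI : ∀ i : ULift.{u} (Fin k), IsOpenImmersion (specMap ((σ i).restrictScalars R)).left := fun i => (ho i).1
  have hj : ∀ q : (specOver R (R' ⊗[R] P)).left, ∃ i, q ∈ Set.range (specMap ((σ i).restrictScalars R)).left := by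
    intro q
    obtain ⟨i, hi⟩ := hcov ((yP d p).left q)
    exact ⟨⟨i⟩, by rw [(ho ⟨i⟩).2]; exact (mem_basicOpen_iff (yP d p) (a i) q).1 hi⟩
  have key : ∀ i : ULift.{u} (Fin k), Flat ((specMap ((σ i).restrictScalars R)).left ≫ (yP d p).left) ∧
      LocallyOfFinitePresentation ((specMap ((σ i).restrictScalars R)).left ≫ (yP d p).left) := by
    intro i
    let D := (pc i.down).D
    let L := (pc i.down).L
    rw [show (specMap ((σ i).restrictScalars R)).left ≫ (yP d p).left =
      (specMap ((IsScalarTower.toAlgHom R L (MvPolynomial (Fin n) L)).comp (IsScalarTower.toAlgHom R D L))).left ≫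
        (pc i.down).j.left from congrArg (fun m => m.left) (hσj i)]
    haveI : Algebra.FinitePresentation D L := IsLocalization.Away.finitePresentation (algebraMap R D f)
    haveI : Algebra.FinitePresentation D (MvPolynomial (Fin n) L) := Algebra.FinitePresentation.trans D L _
    haveI : Module.Flat D L := IsLocalization.flat _ (Submonoid.powers (algebraMap R D f))
    haveI : Module.Flat D (MvPolynomial (Fin n) L) := Module.Flat.trans D L _
    haveI : Flat (specMap ((IsScalarTower.toAlgHom R L (MvPolynomial (Fin n) L)).comp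
        (IsScalarTower.toAlgHom R D L))).left :=
      (HasRingHomProperty.Spec_iff (P := @Flat)).2
        (RingHom.flat_algebraMap_iff.2 (inferInstance : Module.Flat D (MvPolynomial (Fin n) L)))
    haveI : LocallyOfFinitePresentation (specMap ((IsScalarTower.toAlgHom R L (MvPolynomial (Fin n) L)).comp
        (IsScalarTower.toAlgHom R D L))).left :=
      (HasRingHomProperty.Spec_iff (P := @LocallyOfFinitePresentation)).2
        (RingHom.finitePresentation_algebraMap.2 (inferInstance : Algebra.FinitePresentation D (MvPolynomial (Fin n) L)))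
    exact ⟨inferInstance, inferInstance⟩
  exact ⟨prop_of_cover (P := @Flat) _ _ (fun i => (specMap ((σ i).restrictScalars R)).left) hj fun i => (key i).1,
    prop_of_cover (P := @LocallyOfFinitePresentation) _ _ (fun i => (specMap ((σ i).restrictScalars R)).left) hj
      fun i => (key i).2⟩

end Groth.Agent.QAGlueLib

end
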