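import Groth.Agent.QAGlueLib.Relation

/-! The relation of a chart is a flat finitely presented equivalence relation on glueable rings. -/

set_option autoImplicit false
set_option linter.style.haveILetI false
set_option backward.isDefEq.respectTransparency false
set_option backward.isDefEq.respectTransparency.types false
set_option maxHeartbeats 1600000

universe u

open CategoryTheory CategoryTheory.Limits AlgebraicGeometry TensorProduct

noncomputable section

namespace Groth.Agent.QAGlueLib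

open _root_.AlgSp Groth.Agent.AlgSpGlue Groth.Agent.GlueEqLib

variable {R R' : Type u} [CommRing R] [CommRing R'] [Algebra R R'] {f : R} {d : Data R R' f}

/-- A map to a glued algebra is flat of finite presentation if it is so on both pieces. -/
theorem flat_fp_leg (hRR' : EtGlue.IsGlueingPair R R' f) {T G : Type u} [CommRing T] [Algebra R T] [CommRing G]
    [Algebra R G] (hT : EtGlue.IsGlueable R R' f T) (hG : EtGlue.IsGlueable R R' f G) (j : T →ₐ[R] G)
    {E' Et : Type u} [CommRing E'] [Algebra R E'] [CommRing Et] [Algebra R Et] (e : R' ⊗[R] G →ₐ[R] E')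
    (he : Function.Bijective e) (s : G →ₐ[R] Et)
    (hs : letI := s.toRingHom.toAlgebra; IsLocalization.Away (algebraMap R G f) Et)
    (l : Localization.Away (algebraMap R T f) →ₐ[R] Et)
    (hl : l.comp (IsScalarTower.toAlgHom R T _) = s.comp j) (hlf : l.toRingHom.Flat ∧ l.toRingHom.FinitePresentation)
    (hl' : (e.comp (Algebra.TensorProduct.map (AlgHom.id R R') j)).toRingHom.Flat ∧
      (e.comp (Algebra.TensorProduct.map (AlgHom.id R R') j)).toRingHom.FinitePresentation) :
    j.toRingHom.Flat ∧ j.toRingHom.FinitePresentation := by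
  letI : Algebra T G := j.toRingHom.toAlgebra
  haveI : IsScalarTower R T G := IsScalarTower.of_algebraMap_eq fun r => (j.commutes r).symm
  letI algGEt : Algebra G Et := s.toRingHom.toAlgebra
  let t := algebraMap R T f
  have ht : algebraMap T G t = algebraMap R G f := j.commutes f
  haveI : IsLocalization.Away (algebraMap T G t) Et := by rw [ht]; exact hs
  let eG : Localization.Away (algebraMap T G t) ≃ₐ[G] Et :=
    IsLocalization.algEquiv (Submonoid.powers (algebraMap T G t)) _ Et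
  have haway : Localization.awayMap (algebraMap T G) t = eG.symm.toRingEquiv.toRingHom.comp l.toRingHom := by
    refine IsLocalization.ringHom_ext (Submonoid.powers t) (RingHom.ext fun x => ?_)
    show Localization.awayMap (algebraMap T G) t (algebraMap T _ x) = eG.symm (l (algebraMap T _ x))
    rw [show l (algebraMap T (Localization.Away t) x) = algebraMap G Et (algebraMap T G x) from AlgHom.congr_fun hl x,
      eG.symm.commutes]
    exact IsLocalization.map_eq _ x
  let eq : R' ⊗[R] G ≃ₐ[R] E' := AlgEquiv.ofBijective e he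
  have hmap : (Algebra.TensorProduct.map (AlgHom.id R R') j).toRingHom =
      eq.symm.toRingEquiv.toRingHom.comp (e.comp (Algebra.TensorProduct.map (AlgHom.id R R') j)).toRingHom :=
    RingHom.ext fun x => (eq.symm_apply_apply _).symm
  have hjj : IsScalarTower.toAlgHom R T G = j := AlgHom.ext fun _ => rfl
  have a1 : RingHom.Flat (Localization.awayMap (algebraMap T G) t) := by
    rw [haway]; exact RingHom.Flat.respectsIso.1 _ _ hlf.1
  have a2 : RingHom.FinitePresentation (Localization.awayMap (algebraMap T G) t) := by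
    rw [haway]; exact RingHom.finitePresentation_respectsIso.1 _ _ hlf.2
  have b1 : RingHom.Flat (Algebra.TensorProduct.map (AlgHom.id R R') j).toRingHom := by
    rw [hmap]; exact RingHom.Flat.respectsIso.1 _ _ hl'.1
  have b2 : RingHom.FinitePresentation (Algebra.TensorProduct.map (AlgHom.id R R') j).toRingHom := by
    rw [hmap]; exact RingHom.finitePresentation_respectsIso.1 _ _ hl'.2
  have hft : j.toRingHom.FiniteType := (Groth.Agent.S10722.result R R' f hRR' T G hT hG j).2
    ⟨RingHom.FiniteType.of_finitePresentation a2, RingHom.FiniteType.of_finitePresentation b2⟩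
  haveI : Algebra.FiniteType T G := RingHom.finiteType_algebraMap.1 hft
  rw [← hjj] at b1 b2
  haveI hflat : Module.Flat T G := GluePairLib.flat_algebra (R' := R') (f := f) hRR' hT
    (RingHom.flat_algebraMap_iff.1 ((GluePairLib.prop_awayMap_iff RingHom.Flat.respectsIso t).1 a1))
    (RingHom.flat_algebraMap_iff.1 ((GluePairLib.prop_map_iff RingHom.Flat.respectsIso).1 b1))
  haveI : Algebra.FinitePresentation (Localization.Away t) (Localization.Away t ⊗[T] G) :=
    RingHom.finitePresentation_algebraMap.1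
      ((GluePairLib.prop_awayMap_iff RingHom.finitePresentation_respectsIso t).1 a2)
  haveI : Algebra.FinitePresentation (T ⊗[R] R') ((T ⊗[R] R') ⊗[T] G) :=
    RingHom.finitePresentation_algebraMap.1
      ((GluePairLib.prop_map_iff RingHom.finitePresentation_respectsIso).1 b2)
  haveI hfp : Algebra.FinitePresentation T G := GluePairLib.finitePresentation_algebra hRR'.1
  exact ⟨RingHom.flat_algebraMap_iff.2 hflat, RingHom.finitePresentation_algebraMap.2 hfp⟩

/-- An equivalence relation on the points of a chart with values in glueable rings. -/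
structure ChartRel (c : Chart d) where
  G : Type u
  [ring : CommRing G]
  [alg : Algebra R G]
  j₁ : c.T →ₐ[R] G
  j₂ : c.T →ₐ[R] G
  surj : Function.Surjective (Algebra.TensorProduct.lift j₁ j₂ fun _ _ => Commute.all _ _)
  eqY : EqY c (Algebra.TensorProduct.includeLeft : R' →ₐ[R] R' ⊗[R] G)
    ((Algebra.TensorProduct.includeRight : G →ₐ[R] R' ⊗[R] G).comp j₁)
    ((Algebra.TensorProduct.includeRight : G →ₐ[R] R' ⊗[R] G).comp j₂)
  eqX : ∀ (B : Type u) [CommRing B] [Algebra R B], IsUnit (algebraMap R B f) → ∀ g : G →ₐ[R] B,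
    EqX c (g.comp j₁) (g.comp j₂)
  univY : ∀ (B : Type u) [CommRing B] [Algebra R B] (θ : R' →ₐ[R] B) (t₁ t₂ : c.T →ₐ[R] B), EqY c θ t₁ t₂ →
    ∃ g : G →ₐ[R] B, g.comp j₁ = t₁ ∧ g.comp j₂ = t₂
  univX : ∀ (B : Type u) [CommRing B] [Algebra R B], IsUnit (algebraMap R B f) → ∀ t₁ t₂ : c.T →ₐ[R] B,
    EqX c t₁ t₂ → ∃ g : G →ₐ[R] B, g.comp j₁ = t₁ ∧ g.comp j₂ = t₂
  flat₁ : j₁.toRingHom.Flat
  fp₁ : j₁.toRingHom.FinitePresentation
  flat₂ : j₂.toRingHom.Flat
  fp₂ : j₂.toRingHom.FinitePresentation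
  refl : ∃ g : G →ₐ[R] c.T, g.comp j₁ = AlgHom.id R c.T ∧ g.comp j₂ = AlgHom.id R c.T
  symm : ∃ g : G →ₐ[R] G, g.comp j₁ = j₂ ∧ g.comp j₂ = j₁
  trans : ∀ (B : Type u) [CommRing B] [Algebra R B] (g₁ g₂ : G →ₐ[R] B), g₁.comp j₂ = g₂.comp j₁ →
    ∃ g : G →ₐ[R] B, g.comp j₁ = g₁.comp j₁ ∧ g.comp j₂ = g₂.comp j₂

attribute [instance] ChartRel.ring ChartRel.alg

/-- Composable pairs. -/
theorem exists_amalgam {T G₁ G₂ : Type u} [CommRing T] [Algebra R T] [CommRing G₁] [Algebra R G₁] [CommRing G₂]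
    [Algebra R G₂] (a : T →ₐ[R] G₁) (b : T →ₐ[R] G₂) (hb : b.toRingHom.Flat) (h : TorsInj R R' f G₁) :
    ∃ (M : Type u) (_ : CommRing M) (_ : Algebra R M) (k₁ : G₁ →ₐ[R] M) (k₂ : G₂ →ₐ[R] M),
      TorsInj R R' f M ∧ k₁.comp a = k₂.comp b ∧
      ∀ (B : Type u) [CommRing B] [Algebra R B] (g₁ : G₁ →ₐ[R] B) (g₂ : G₂ →ₐ[R] B), g₁.comp a = g₂.comp b →
        ∃ ω : M →ₐ[R] B, ω.comp k₁ = g₁ ∧ ω.comp k₂ = g₂ := by
  letI : Algebra T G₁ := a.toRingHom.toAlgebra
  letI : Algebra T G₂ := b.toRingHom.toAlgebra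
  haveI : IsScalarTower R T G₁ := IsScalarTower.of_algebraMap_eq fun r => (a.commutes r).symm
  haveI : IsScalarTower R T G₂ := IsScalarTower.of_algebraMap_eq fun r => (b.commutes r).symm
  haveI : Module.Flat T G₂ := RingHom.flat_algebraMap_iff.1 hb
  haveI : Module.Flat G₁ (G₁ ⊗[T] G₂) := Module.Flat.baseChange T G₁ G₂
  refine ⟨G₁ ⊗[T] G₂, inferInstance, inferInstance,
    (Algebra.TensorProduct.includeLeft : G₁ →ₐ[T] G₁ ⊗[T] G₂).restrictScalars R,
    (Algebra.TensorProduct.includeRight : G₂ →ₐ[T] G₁ ⊗[T] G₂).restrictScalars R, torsInj_of_flat (A := G₁) h, ?_,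
    fun B _ _ g₁ g₂ hg => ?_⟩
  · refine AlgHom.ext fun x => ?_
    show (Algebra.TensorProduct.includeLeft : G₁ →ₐ[T] G₁ ⊗[T] G₂) (algebraMap T G₁ x) =
      (Algebra.TensorProduct.includeRight : G₂ →ₐ[T] G₁ ⊗[T] G₂) (algebraMap T G₂ x)
    rw [AlgHom.commutes, AlgHom.commutes]
  · letI : Algebra T B := (g₂.comp b).toRingHom.toAlgebra
    haveI : IsScalarTower R T B := IsScalarTower.of_algebraMap_eq fun r => ((g₂.comp b).commutes r).symm
    let a' : G₁ →ₐ[T] B := { g₁.toRingHom with commutes' := fun x => AlgHom.congr_fun hg x }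
    let b' : G₂ →ₐ[T] B := { g₂.toRingHom with commutes' := fun x => rfl }
    let ω := Algebra.TensorProduct.lift a' b' fun _ _ => Commute.all _ _
    refine ⟨ω.restrictScalars R, AlgHom.ext fun x => ?_, AlgHom.ext fun x => ?_⟩
    · show ω (x ⊗ₜ[T] (1 : G₂)) = g₁ x
      rw [Algebra.TensorProduct.lift_tmul, map_one, mul_one]
      rfl
    · show ω ((1 : G₁) ⊗ₜ[T] x) = g₂ x
      rw [Algebra.TensorProduct.lift_tmul, map_one, one_mul]
      rfl

/-- The relation of a chart. -/
theorem exists_chartRel (hRR' : EtGlue.IsGlueingPair R R' f) (c : Chart d) : Nonempty (ChartRel c) := by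
  classical
  obtain ⟨G, _, _, j₁, j₂, hG, hsurj, hEY, hEX, hY, hX, E', _, _, e, Et, _, _, s, he, hs, hu', hut⟩ :=
    exists_relation c hRR'
  haveI := d.qaV
  haveI := d.qaY
  letI : Algebra G Et := s.toRingHom.toAlgebra
  haveI := hs
  have huEt : IsUnit (algebraMap R Et f) := by
    rw [← s.commutes]
    exact IsLocalization.Away.algebraMap_isUnit (S := Et) (algebraMap R G f)
  obtain ⟨l₁, hl₁⟩ := exists_liftX c huEt (s.comp j₁)
  obtain ⟨l₂, hl₂⟩ := exists_liftX c huEt (s.comp j₂)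
  have hx := flat_fp_pair c.x l₁ l₂ c.flat_x c.lfp_x (hEX Et huEt s l₁ l₂ hl₁ hl₂)
    (fun B _ _ b₁ b₂ h => hut B b₁ b₂ h l₁ l₂ hl₁ hl₂)
  have hm : ∀ j : c.T →ₐ[R] G, Algebra.TensorProduct.map (AlgHom.id R R') j =
      liftY c (Algebra.TensorProduct.includeLeft : R' →ₐ[R] R' ⊗[R] G)
        ((Algebra.TensorProduct.includeRight : G →ₐ[R] R' ⊗[R] G).comp j) := fun j => by
    rw [← liftY_eta c (Algebra.TensorProduct.map (AlgHom.id R R') j), Algebra.TensorProduct.map_comp_includeLeft,
      Algebra.TensorProduct.map_comp_includeRight, AlgHom.comp_id]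
  have hy := flat_fp_pair c.y (e.comp (Algebra.TensorProduct.map (AlgHom.id R R') j₁))
    (e.comp (Algebra.TensorProduct.map (AlgHom.id R R') j₂)) c.flat_y c.lfp_y (by
      rw [hm, hm, ← specMap_comp_assoc, ← specMap_comp_assoc, hEY]) (fun B _ _ γ₁ γ₂ h => hu' B γ₁ γ₂ h)
  have p₁ := flat_fp_leg hRR' c.glueable hG j₁ e he s hs l₁ hl₁ hx.1 hy.1
  have p₂ := flat_fp_leg hRR' c.glueable hG j₂ e he s hs l₂ hl₂ hx.2 hy.2
  -- factorisation through `G`
  have factor : ∀ (B : Type u) [CommRing B] [Algebra R B], TorsInj R R' f B → ∀ t₁ t₂ : c.T →ₐ[R] B,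
      EqY c (Algebra.TensorProduct.includeLeft : R' →ₐ[R] R' ⊗[R] B)
        ((Algebra.TensorProduct.includeRight : B →ₐ[R] R' ⊗[R] B).comp t₁)
        ((Algebra.TensorProduct.includeRight : B →ₐ[R] R' ⊗[R] B).comp t₂) →
      EqX c ((IsScalarTower.toAlgHom R B (Localization.Away (algebraMap R B f))).comp t₁)
        ((IsScalarTower.toAlgHom R B (Localization.Away (algebraMap R B f))).comp t₂) →
      ∃ g : G →ₐ[R] B, g.comp j₁ = t₁ ∧ g.comp j₂ = t₂ := by
    intro B _ _ hB t₁ t₂ hy' hx'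
    let N := c.T ⊗[R] c.T
    let q : N →ₐ[R] G := Algebra.TensorProduct.lift j₁ j₂ fun _ _ => Commute.all _ _
    let τ : N →ₐ[R] B := Algebra.TensorProduct.lift t₁ t₂ fun _ _ => Commute.all _ _
    let Bf := Localization.Away (algebraMap R B f)
    let iB : B →ₐ[R] Bf := IsScalarTower.toAlgHom R B Bf
    let inR : B →ₐ[R] R' ⊗[R] B := Algebra.TensorProduct.includeRight
    have hq₁ : q.comp (i₁ c) = j₁ :=
      Algebra.TensorProduct.lift_comp_includeLeft _ _ fun _ _ => Commute.all _ _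
    have hq₂ : q.comp (i₂ c) = j₂ :=
      Algebra.TensorProduct.lift_comp_includeRight _ _ fun _ _ => Commute.all _ _
    have hτ₁ : τ.comp (i₁ c) = t₁ :=
      Algebra.TensorProduct.lift_comp_includeLeft _ _ fun _ _ => Commute.all _ _
    have hτ₂ : τ.comp (i₂ c) = t₂ :=
      Algebra.TensorProduct.lift_comp_includeRight _ _ fun _ _ => Commute.all _ _
    have huBf : IsUnit (algebraMap R Bf f) := by
      rw [IsScalarTower.algebraMap_apply R B Bf]
      exact IsLocalization.Away.algebraMap_isUnit _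
    obtain ⟨g', hg'₁, hg'₂⟩ := hY (R' ⊗[R] B) _ _ _ hy'
    obtain ⟨gt, hgt₁, hgt₂⟩ := hX Bf huBf _ _ hx'
    have e' : inR.comp τ = g'.comp q := pair_ext c
      (by rw [AlgHom.comp_assoc, AlgHom.comp_assoc, hτ₁, hq₁, hg'₁])
      (by rw [AlgHom.comp_assoc, AlgHom.comp_assoc, hτ₂, hq₂, hg'₂])
    have et : iB.comp τ = gt.comp q := pair_ext c
      (by rw [AlgHom.comp_assoc, AlgHom.comp_assoc, hτ₁, hq₁, hgt₁])
      (by rw [AlgHom.comp_assoc, AlgHom.comp_assoc, hτ₂, hq₂, hgt₂])
    have hker : RingHom.ker q.toRingHom ≤ RingHom.ker τ.toRingHom := by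
      intro n hn
      have hn' : q n = 0 := hn
      have h0 : iB (τ n) = 0 := by rw [show iB (τ n) = gt (q n) from AlgHom.congr_fun et n, hn', map_zero]
      have h1 : (1 : R') ⊗ₜ[R] τ n = 0 := by
        rw [show (1 : R') ⊗ₜ[R] τ n = g' (q n) from AlgHom.congr_fun e' n, hn', map_zero]
      obtain ⟨⟨_, k, rfl⟩, hk⟩ :=
        (IsLocalization.map_eq_zero_iff (Submonoid.powers (algebraMap R B f)) Bf (τ n)).1 h0
      refine hB _ ⟨k, ?_⟩ h1
      rw [Algebra.smul_def, map_pow]
      exact hk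
    let g : G →ₐ[R] B := AlgHom.liftOfSurjective q hsurj τ hker
    have hg : g.comp q = τ := AlgHom.liftOfSurjective_comp q hsurj τ hker
    exact ⟨g, by rw [← hq₁, ← AlgHom.comp_assoc, hg, hτ₁], by rw [← hq₂, ← AlgHom.comp_assoc, hg, hτ₂]⟩
  have tors : ∀ (B : Type u) [CommRing B] [Algebra R B], EtGlue.IsGlueable R R' f B → TorsInj R R' f B :=
    fun B _ _ h => ((Groth.Agent.S2005.result R R' f hRR'.1 B).2 hRR').1 h
  have huloc : ∀ (B : Type u) [CommRing B] [Algebra R B],
      IsUnit (algebraMap R (Localization.Away (algebraMap R B f)) f) := fun B _ _ => by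
    rw [IsScalarTower.algebraMap_apply R B (Localization.Away (algebraMap R B f))]
    exact IsLocalization.Away.algebraMap_isUnit _
  refine ⟨{ G := G, j₁ := j₁, j₂ := j₂, surj := hsurj, eqY := hEY, eqX := hEX, univY := hY, univX := hX
            flat₁ := p₁.1, fp₁ := p₁.2, flat₂ := p₂.1, fp₂ := p₂.2
            refl := ?_, symm := ?_, trans := ?_ }⟩
  · exact factor c.T (tors c.T c.glueable) _ _ rfl (EqX.refl c _)
  · refine factor G (tors G hG) j₂ j₁ (Eq.symm hEY) ?_
    exact (hEX _ (huloc G) _).symm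
  · intro B _ _ g₁ g₂ h
    obtain ⟨M, _, _, k₁, k₂, hM, hk, hMu⟩ := exists_amalgam j₂ j₁ p₁.1 (tors G hG)
    obtain ⟨ω, hω₁, hω₂⟩ := hMu B g₁ g₂ h
    let inR : M →ₐ[R] R' ⊗[R] M := Algebra.TensorProduct.includeRight
    have hY' : ∀ k : G →ₐ[R] M, EqY c (Algebra.TensorProduct.includeLeft : R' →ₐ[R] R' ⊗[R] M)
        (inR.comp (k.comp j₁)) (inR.comp (k.comp j₂)) := fun k => by
      have h := EqY.map c hEY (Algebra.TensorProduct.map (AlgHom.id R R') k)
      rw [Algebra.TensorProduct.map_comp_includeLeft, AlgHom.comp_id] at h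
      rw [← AlgHom.comp_assoc, ← AlgHom.comp_assoc, Algebra.TensorProduct.map_comp_includeRight,
        AlgHom.comp_assoc, AlgHom.comp_assoc] at h
      exact h
    let iM := IsScalarTower.toAlgHom R M (Localization.Away (algebraMap R M f))
    obtain ⟨g, hg₁, hg₂⟩ := factor M hM (k₁.comp j₁) (k₂.comp j₂)
      (by
        unfold EqY
        have e1 : EqY c _ _ _ := hY' k₁
        have e2 : EqY c _ _ _ := hY' k₂
        unfold EqY at e1 e2
        rw [e1, hk, e2])
      (by
        have e1 := hEX _ (huloc M) (iM.comp k₁)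
        have e2 := hEX _ (huloc M) (iM.comp k₂)
        rw [AlgHom.comp_assoc, AlgHom.comp_assoc] at e1 e2
        rw [← hk] at e2
        exact e1.trans c (huloc M) e2)
    exact ⟨ω.comp g, by rw [AlgHom.comp_assoc, hg₁, ← AlgHom.comp_assoc, hω₁],
      by rw [AlgHom.comp_assoc, hg₂, ← AlgHom.comp_assoc, hω₂]⟩

end Groth.Agent.QAGlueLib

end
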