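import Groth.Agent.QAGlueLib.Chart
import Groth.Agent.QAGlueLib.Pair
import Groth.Agent.GluePairLib.Algebra
import Groth.Agent.S10722

/-! The relation on a chart: pairs of points with the same images in `V` and in `Y'`. -/

set_option autoImplicit false
set_option linter.style.haveILetI false
set_option backward.isDefEq.respectTransparency false
set_option backward.isDefEq.respectTransparency.types false
set_option maxHeartbeats 1600000

universe u

open CategoryTheory CategoryTheory.Limits AlgebraicGeometry TensorProduct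

noncomputable section

namespace Groth.Agent.QAGlueLib

open _root_.AlgSp Groth.Agent.AlgSpGlue Groth.Agent.GlueEqLib

variable {R R' : Type u} [CommRing R] [CommRing R'] [Algebra R R'] {f : R} {d : Data R R' f} (c : Chart d)

/-- The base change of a point of the chart. -/
abbrev liftY {B : Type u} [CommRing B] [Algebra R B] (θ : R' →ₐ[R] B) (t : c.T →ₐ[R] B) : R' ⊗[R] c.T →ₐ[R] B :=
  Algebra.TensorProduct.lift θ t fun _ _ => Commute.all _ _

theorem liftY_inl {B : Type u} [CommRing B] [Algebra R B] (θ : R' →ₐ[R] B) (t : c.T →ₐ[R] B) :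
    (liftY c θ t).comp Algebra.TensorProduct.includeLeft = θ := AlgHom.ext fun r => by
  show liftY c θ t (r ⊗ₜ[R] (1 : c.T)) = θ r
  rw [Algebra.TensorProduct.lift_tmul, map_one, mul_one]

theorem liftY_inr {B : Type u} [CommRing B] [Algebra R B] (θ : R' →ₐ[R] B) (t : c.T →ₐ[R] B) :
    (liftY c θ t).comp Algebra.TensorProduct.includeRight = t := AlgHom.ext fun r => by
  show liftY c θ t ((1 : R') ⊗ₜ[R] r) = t r
  rw [Algebra.TensorProduct.lift_tmul, map_one, one_mul]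

theorem liftY_comp {B B' : Type u} [CommRing B] [Algebra R B] [CommRing B'] [Algebra R B'] (ω : B →ₐ[R] B')
    (θ : R' →ₐ[R] B) (t : c.T →ₐ[R] B) : ω.comp (liftY c θ t) = liftY c (ω.comp θ) (ω.comp t) := by
  refine Algebra.TensorProduct.ext ?_ ?_
  · show ((ω.comp (liftY c θ t))).comp Algebra.TensorProduct.includeLeft = _
    rw [AlgHom.comp_assoc, liftY_inl]
    exact (liftY_inl c _ _).symm
  · show ((ω.comp (liftY c θ t))).comp Algebra.TensorProduct.includeRight = _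
    rw [AlgHom.comp_assoc, liftY_inr]
    exact (liftY_inr c _ _).symm

theorem liftY_eta {B : Type u} [CommRing B] [Algebra R B] (γ : R' ⊗[R] c.T →ₐ[R] B) :
    liftY c (γ.comp Algebra.TensorProduct.includeLeft) (γ.comp Algebra.TensorProduct.includeRight) = γ :=
  Algebra.TensorProduct.ext (liftY_inl c _ _) (liftY_inr c _ _)

/-- The localised chart. -/
abbrev Tf : Type u := Localization.Away (algebraMap R c.T f)

/-- The map to the localised chart. -/
def iTf : c.T →ₐ[R] Tf c := IsScalarTower.toAlgHom R c.T (Tf c)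

theorem isUnit_Tf : IsUnit (algebraMap R (Tf c) f) := by
  rw [IsScalarTower.algebraMap_apply R c.T (Tf c)]
  exact IsLocalization.Away.algebraMap_isUnit _

theorem exists_liftX {B : Type u} [CommRing B] [Algebra R B] (hu : IsUnit (algebraMap R B f)) (t : c.T →ₐ[R] B) :
    ∃ β : Tf c →ₐ[R] B, β.comp (iTf c) = t :=
  exists_lift_loc (iTf c) (algebraMap R c.T f) (away_self _) t (by rwa [AlgHom.commutes])

theorem liftX_unique {B : Type u} [CommRing B] [Algebra R B] {β β' : Tf c →ₐ[R] B}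
    (h : β.comp (iTf c) = β'.comp (iTf c)) : β = β' :=
  IsLocalization.algHom_ext (Submonoid.powers (algebraMap R c.T f)) h

/-- Two points of the chart with the same image in `V`. -/
def EqX {B : Type u} [CommRing B] [Algebra R B] (t₁ t₂ : c.T →ₐ[R] B) : Prop :=
  ∀ β₁ β₂ : Tf c →ₐ[R] B, β₁.comp (iTf c) = t₁ → β₂.comp (iTf c) = t₂ → specMap β₁ ≫ c.x = specMap β₂ ≫ c.x

/-- Two points of the chart with the same image in `Y'`. -/
def EqY {B : Type u} [CommRing B] [Algebra R B] (θ : R' →ₐ[R] B) (t₁ t₂ : c.T →ₐ[R] B) : Prop :=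
  specMap (liftY c θ t₁) ≫ c.y = specMap (liftY c θ t₂) ≫ c.y

theorem EqX.map {B B' : Type u} [CommRing B] [Algebra R B] [CommRing B'] [Algebra R B'] {t₁ t₂ : c.T →ₐ[R] B}
    (hu : IsUnit (algebraMap R B f)) (h : EqX c t₁ t₂) (ω : B →ₐ[R] B') : EqX c (ω.comp t₁) (ω.comp t₂) := by
  intro β₁ β₂ h₁ h₂
  obtain ⟨b₁, hb₁⟩ := exists_liftX c hu t₁
  obtain ⟨b₂, hb₂⟩ := exists_liftX c hu t₂
  rw [liftX_unique c (h₁.trans (by rw [AlgHom.comp_assoc, hb₁]) : β₁.comp (iTf c) = (ω.comp b₁).comp (iTf c)),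
    liftX_unique c (h₂.trans (by rw [AlgHom.comp_assoc, hb₂]) : β₂.comp (iTf c) = (ω.comp b₂).comp (iTf c)),
    ← specMap_comp_assoc, h b₁ b₂ hb₁ hb₂, specMap_comp_assoc]

theorem EqY.map {B B' : Type u} [CommRing B] [Algebra R B] [CommRing B'] [Algebra R B'] {θ : R' →ₐ[R] B}
    {t₁ t₂ : c.T →ₐ[R] B} (h : EqY c θ t₁ t₂) (ω : B →ₐ[R] B') : EqY c (ω.comp θ) (ω.comp t₁) (ω.comp t₂) := by
  unfold EqY at h ⊢
  rw [← liftY_comp, ← liftY_comp, ← specMap_comp_assoc, h, specMap_comp_assoc]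

theorem EqX.refl {B : Type u} [CommRing B] [Algebra R B] (t : c.T →ₐ[R] B) : EqX c t t :=
  fun _ _ h₁ h₂ => by rw [liftX_unique c (h₁.trans h₂.symm)]

theorem EqX.symm {B : Type u} [CommRing B] [Algebra R B] {t₁ t₂ : c.T →ₐ[R] B} (h : EqX c t₁ t₂) : EqX c t₂ t₁ :=
  fun β₁ β₂ h₁ h₂ => (h β₂ β₁ h₂ h₁).symm

theorem EqX.trans {B : Type u} [CommRing B] [Algebra R B] {t₁ t₂ t₃ : c.T →ₐ[R] B} (hu : IsUnit (algebraMap R B f))
    (h : EqX c t₁ t₂) (h' : EqX c t₂ t₃) : EqX c t₁ t₃ := fun β₁ β₃ h₁ h₃ => by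
  obtain ⟨β₂, h₂⟩ := exists_liftX c hu t₂
  exact (h β₁ β₂ h₁ h₂).trans (h' β₂ β₃ h₂ h₃)

/-- Over `R'_f` the two conditions agree. -/
theorem eqX_iff_eqY {B : Type u} [CommRing B] [Algebra R B] (hu : IsUnit (algebraMap R B f)) (θ : R' →ₐ[R] B)
    (t₁ t₂ : c.T →ₐ[R] B) : EqX c t₁ t₂ ↔ EqY c θ t₁ t₂ := by
  obtain ⟨b₁, hb₁⟩ := exists_liftX c hu t₁
  obtain ⟨b₂, hb₂⟩ := exists_liftX c hu t₂
  have r₁ := c.rel B b₁ (liftY c θ t₁) (by rw [liftY_inr]; exact hb₁)
  have r₂ := c.rel B b₂ (liftY c θ t₂) (by rw [liftY_inr]; exact hb₂)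
  constructor
  · intro h
    unfold EqY
    rw [h b₁ b₂ hb₁ hb₂] at r₁
    refine d.rel_right_unique r₁ r₂ ?_
    rw [Category.assoc, Category.assoc, c.y_y', specMap_comp, specMap_comp, liftY_inl, liftY_inl]
  · intro h β₁ β₂ h₁ h₂
    unfold EqY at h
    rw [h] at r₁
    rw [liftX_unique c (h₁.trans hb₁.symm), liftX_unique c (h₂.trans hb₂.symm)]
    exact d.rel_left_unique r₁ r₂

/-- First leg. -/
abbrev i₁ : c.T →ₐ[R] c.T ⊗[R] c.T := Algebra.TensorProduct.includeLeft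
/-- Second leg. -/
abbrev i₂ : c.T →ₐ[R] c.T ⊗[R] c.T := Algebra.TensorProduct.includeRight

theorem pair_ext {B : Type u} [CommRing B] [Algebra R B] {a b : c.T ⊗[R] c.T →ₐ[R] B}
    (h₁ : a.comp (i₁ c) = b.comp (i₁ c)) (h₂ : a.comp (i₂ c) = b.comp (i₂ c)) : a = b :=
  Algebra.TensorProduct.ext h₁ h₂

/-- Pairs of `R'`-points with the same image in `Y'`. -/
theorem exists_pairY :
    ∃ (E : Type u) (_ : CommRing E) (_ : Algebra R E) (_ : Algebra R' E) (_ : IsScalarTower R R' E)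
      (q : c.T ⊗[R] c.T →ₐ[R] E),
      Function.Surjective (Algebra.TensorProduct.lift (Algebra.ofId R' E) q fun _ _ => Commute.all _ _) ∧
      EqY c (IsScalarTower.toAlgHom R R' E) (q.comp (i₁ c)) (q.comp (i₂ c)) ∧
      ∀ (B : Type u) [CommRing B] [Algebra R B] (θ : R' →ₐ[R] B) (t₁ t₂ : c.T →ₐ[R] B), EqY c θ t₁ t₂ →
        ∃ ω : E →ₐ[R] B, ω.comp (IsScalarTower.toAlgHom R R' E) = θ ∧ ω.comp (q.comp (i₁ c)) = t₁ ∧
          ω.comp (q.comp (i₂ c)) = t₂ := by
  haveI := d.qaY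
  let N := c.T ⊗[R] c.T
  let inR : N →ₐ[R] R' ⊗[R] N := Algebra.TensorProduct.includeRight
  let inL : R' →ₐ[R] R' ⊗[R] N := Algebra.TensorProduct.includeLeft
  let γ₁ := liftY c inL (inR.comp (i₁ c))
  let γ₂ := liftY c inL (inR.comp (i₂ c))
  let J := pairIdeal c.y γ₁ γ₂
  let mk : R' ⊗[R] N →ₐ[R] (R' ⊗[R] N) ⧸ J := Ideal.Quotient.mkₐ R J
  refine ⟨(R' ⊗[R] N) ⧸ J, inferInstance, inferInstance, inferInstance, inferInstance, mk.comp inR, ?_, ?_,
    fun B _ _ θ t₁ t₂ h => ?_⟩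
  · intro z
    obtain ⟨w, rfl⟩ := Ideal.Quotient.mk_surjective z
    refine ⟨w, ?_⟩
    refine AlgHom.congr_fun (φ₁ := Algebra.TensorProduct.lift (Algebra.ofId R' _) (mk.comp inR) fun _ _ =>
      Commute.all _ _) (φ₂ := Ideal.Quotient.mkₐ R' J) ?_ w
    exact Algebra.TensorProduct.ext (Subsingleton.elim _ _) (Algebra.TensorProduct.lift_comp_includeRight _ _ _)
  · unfold EqY
    have h := pair_point_eq c.y γ₁ γ₂ mk (fun x hx => Ideal.Quotient.eq_zero_iff_mem.2 hx)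
    rw [liftY_comp, liftY_comp] at h
    exact h
  · let ω₀ : R' ⊗[R] N →ₐ[R] B := Algebra.TensorProduct.lift θ
      (Algebra.TensorProduct.lift t₁ t₂ fun _ _ => Commute.all _ _) fun _ _ => Commute.all _ _
    have e0 : ω₀.comp inL = θ := AlgHom.ext fun r => by simp [ω₀, inL]
    have e1 : ω₀.comp (inR.comp (i₁ c)) = t₁ := AlgHom.ext fun r => by
      show ω₀ ((1 : R') ⊗ₜ[R] (r ⊗ₜ[R] (1 : c.T))) = t₁ r
      rw [Algebra.TensorProduct.lift_tmul, Algebra.TensorProduct.lift_tmul, map_one, map_one, one_mul, mul_one]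
    have e2 : ω₀.comp (inR.comp (i₂ c)) = t₂ := AlgHom.ext fun r => by
      show ω₀ ((1 : R') ⊗ₜ[R] ((1 : c.T) ⊗ₜ[R] r)) = t₂ r
      rw [Algebra.TensorProduct.lift_tmul, Algebra.TensorProduct.lift_tmul, map_one, map_one, one_mul, one_mul]
    have hk : J ≤ RingHom.ker ω₀.toRingHom := by
      refine pairIdeal_le_ker c.y γ₁ γ₂ ω₀ ?_
      rw [liftY_comp, liftY_comp, e0, e1, e2]
      exact h
    refine ⟨Ideal.Quotient.liftₐ J ω₀ fun a ha => hk ha, ?_, ?_, ?_⟩
    · exact AlgHom.ext fun r => AlgHom.congr_fun e0 r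
    · exact AlgHom.ext fun r => AlgHom.congr_fun e1 r
    · exact AlgHom.ext fun r => AlgHom.congr_fun e2 r

/-- Pairs of `R_f`-points with the same image in `V`. -/
theorem exists_pairX :
    ∃ (E : Type u) (_ : CommRing E) (_ : Algebra R E) (q : c.T ⊗[R] c.T →ₐ[R] E),
      IsUnit (algebraMap R E f) ∧ (∀ z : E, ∃ (k : ℕ) (n : c.T ⊗[R] c.T), algebraMap R E f ^ k * z = q n) ∧
      EqX c (q.comp (i₁ c)) (q.comp (i₂ c)) ∧
      ∀ (B : Type u) [CommRing B] [Algebra R B], IsUnit (algebraMap R B f) → ∀ t₁ t₂ : c.T →ₐ[R] B, EqX c t₁ t₂ →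
        ∃ ω : E →ₐ[R] B, ω.comp (q.comp (i₁ c)) = t₁ ∧ ω.comp (q.comp (i₂ c)) = t₂ := by
  haveI := d.qaV
  let N2 := Tf c ⊗[R] Tf c
  let l₁ : Tf c →ₐ[R] N2 := Algebra.TensorProduct.includeLeft
  let l₂ : Tf c →ₐ[R] N2 := Algebra.TensorProduct.includeRight
  let J := pairIdeal c.x l₁ l₂
  let mk : N2 →ₐ[R] N2 ⧸ J := Ideal.Quotient.mkₐ R J
  let m : c.T ⊗[R] c.T →ₐ[R] N2 := Algebra.TensorProduct.map (iTf c) (iTf c)
  have e₁ : m.comp (i₁ c) = l₁.comp (iTf c) :=
    AlgHom.ext fun t => (Algebra.TensorProduct.map_tmul (iTf c) (iTf c) t 1).trans (by rw [map_one]; rfl)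
  have e₂ : m.comp (i₂ c) = l₂.comp (iTf c) :=
    AlgHom.ext fun t => (Algebra.TensorProduct.map_tmul (iTf c) (iTf c) 1 t).trans (by rw [map_one]; rfl)
  have hsurj : ∀ z : N2, ∃ (k : ℕ) (n : c.T ⊗[R] c.T), algebraMap R N2 f ^ k * z = m n := by
    intro z
    induction z using TensorProduct.induction_on with
    | zero => exact ⟨0, 0, by simp⟩
    | tmul a b =>
      obtain ⟨⟨a₀, _, k, rfl⟩, ha⟩ := IsLocalization.surj (Submonoid.powers (algebraMap R c.T f)) a
      obtain ⟨⟨b₀, _, j, rfl⟩, hb⟩ := IsLocalization.surj (Submonoid.powers (algebraMap R c.T f)) b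
      refine ⟨k + j, a₀ ⊗ₜ[R] b₀, ?_⟩
      rw [pow_add]
      conv_lhs => enter [1, 1]; rw [← l₁.commutes, ← map_pow]
      conv_lhs => enter [1, 2]; rw [← l₂.commutes, ← map_pow]
      show ((algebraMap R (Tf c) f ^ k) ⊗ₜ[R] (1 : Tf c) * (1 : Tf c) ⊗ₜ[R] (algebraMap R (Tf c) f ^ j)) *
        a ⊗ₜ[R] b = m (a₀ ⊗ₜ[R] b₀)
      rw [Algebra.TensorProduct.tmul_mul_tmul, Algebra.TensorProduct.tmul_mul_tmul, mul_one, one_mul,
        show m (a₀ ⊗ₜ[R] b₀) = iTf c a₀ ⊗ₜ[R] iTf c b₀ from Algebra.TensorProduct.map_tmul _ _ _ _,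
        show algebraMap R (Tf c) f ^ k * a = iTf c a₀ from by
          rw [mul_comm, IsScalarTower.algebraMap_apply R c.T (Tf c), ← map_pow]; exact ha,
        show algebraMap R (Tf c) f ^ j * b = iTf c b₀ from by
          rw [mul_comm, IsScalarTower.algebraMap_apply R c.T (Tf c), ← map_pow]; exact hb]
    | add a b ha hb =>
      obtain ⟨k, n, hn⟩ := ha
      obtain ⟨j, n', hn'⟩ := hb
      refine ⟨k + j, algebraMap R _ f ^ j * n + algebraMap R _ f ^ k * n', ?_⟩
      rw [map_add, map_mul, map_mul, map_pow, map_pow, AlgHom.commutes, ← hn, ← hn']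
      ring
  refine ⟨N2 ⧸ J, inferInstance, inferInstance, mk.comp m, ?_, fun z => ?_, ?_, fun B _ _ hu t₁ t₂ h => ?_⟩
  · rw [← (mk.comp l₁).commutes]
    exact (isUnit_Tf c).map (mk.comp l₁)
  · obtain ⟨w, rfl⟩ := Ideal.Quotient.mk_surjective z
    obtain ⟨k, n, hn⟩ := hsurj w
    refine ⟨k, n, ?_⟩
    show _ = mk (m n)
    rw [← hn, map_mul, map_pow, AlgHom.commutes]
    rfl
  · intro β₁ β₂ h₁ h₂
    rw [liftX_unique c (h₁.trans (by rw [AlgHom.comp_assoc, e₁]; rfl) : β₁.comp (iTf c) = (mk.comp l₁).comp (iTf c)),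
      liftX_unique c (h₂.trans (by rw [AlgHom.comp_assoc, e₂]; rfl) : β₂.comp (iTf c) = (mk.comp l₂).comp (iTf c))]
    exact pair_point_eq c.x l₁ l₂ mk (fun x hx => Ideal.Quotient.eq_zero_iff_mem.2 hx)
  · obtain ⟨b₁, hb₁⟩ := exists_liftX c hu t₁
    obtain ⟨b₂, hb₂⟩ := exists_liftX c hu t₂
    let ω₀ : N2 →ₐ[R] B := Algebra.TensorProduct.lift b₁ b₂ fun _ _ => Commute.all _ _
    have f₁ : ω₀.comp l₁ = b₁ := AlgHom.ext fun r => by
      show ω₀ (r ⊗ₜ[R] (1 : Tf c)) = b₁ r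
      rw [Algebra.TensorProduct.lift_tmul, map_one, mul_one]
    have f₂ : ω₀.comp l₂ = b₂ := AlgHom.ext fun r => by
      show ω₀ ((1 : Tf c) ⊗ₜ[R] r) = b₂ r
      rw [Algebra.TensorProduct.lift_tmul, map_one, one_mul]
    have hk : J ≤ RingHom.ker ω₀.toRingHom := pairIdeal_le_ker c.x l₁ l₂ ω₀ (by rw [f₁, f₂]; exact h b₁ b₂ hb₁ hb₂)
    refine ⟨Ideal.Quotient.liftₐ J ω₀ fun a ha => hk ha, AlgHom.ext fun t => ?_, AlgHom.ext fun t => ?_⟩
    · show ω₀ (m (i₁ c t)) = t₁ t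
      rw [show m (i₁ c t) = l₁ (iTf c t) from AlgHom.congr_fun e₁ t, ← hb₁, ← f₁]
      rfl
    · show ω₀ (m (i₂ c t)) = t₂ t
      rw [show m (i₂ c t) = l₂ (iTf c t) from AlgHom.congr_fun e₂ t, ← hb₂, ← f₂]
      rfl

/-- The glued relation. -/
theorem exists_relation (hRR' : EtGlue.IsGlueingPair R R' f) :
    ∃ (G : Type u) (_ : CommRing G) (_ : Algebra R G) (j₁ j₂ : c.T →ₐ[R] G),
      EtGlue.IsGlueable R R' f G ∧
      Function.Surjective (Algebra.TensorProduct.lift j₁ j₂ fun _ _ => Commute.all _ _) ∧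
      EqY c (Algebra.TensorProduct.includeLeft : R' →ₐ[R] R' ⊗[R] G)
        ((Algebra.TensorProduct.includeRight : G →ₐ[R] R' ⊗[R] G).comp j₁)
        ((Algebra.TensorProduct.includeRight : G →ₐ[R] R' ⊗[R] G).comp j₂) ∧
      (∀ (B : Type u) [CommRing B] [Algebra R B], IsUnit (algebraMap R B f) → ∀ g : G →ₐ[R] B,
        EqX c (g.comp j₁) (g.comp j₂)) ∧
      (∀ (B : Type u) [CommRing B] [Algebra R B] (θ : R' →ₐ[R] B) (t₁ t₂ : c.T →ₐ[R] B), EqY c θ t₁ t₂ →
        ∃ g : G →ₐ[R] B, g.comp j₁ = t₁ ∧ g.comp j₂ = t₂) ∧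
      (∀ (B : Type u) [CommRing B] [Algebra R B], IsUnit (algebraMap R B f) → ∀ t₁ t₂ : c.T →ₐ[R] B, EqX c t₁ t₂ →
        ∃ g : G →ₐ[R] B, g.comp j₁ = t₁ ∧ g.comp j₂ = t₂) ∧
      ∃ (E' : Type u) (_ : CommRing E') (_ : Algebra R E') (e : R' ⊗[R] G →ₐ[R] E') (Et : Type u) (_ : CommRing Et)
        (_ : Algebra R Et) (s : G →ₐ[R] Et),
        Function.Bijective e ∧ (letI := s.toRingHom.toAlgebra; IsLocalization.Away (algebraMap R G f) Et) ∧
        (∀ (B : Type u) [CommRing B] [Algebra R B] (γ₁ γ₂ : R' ⊗[R] c.T →ₐ[R] B),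
          specMap γ₁ ≫ c.y = specMap γ₂ ≫ c.y → ∃! ω : E' →ₐ[R] B,
            ω.comp (e.comp (Algebra.TensorProduct.map (AlgHom.id R R') j₁)) = γ₁ ∧
            ω.comp (e.comp (Algebra.TensorProduct.map (AlgHom.id R R') j₂)) = γ₂) ∧
        (∀ (B : Type u) [CommRing B] [Algebra R B] (β₁ β₂ : Tf c →ₐ[R] B), specMap β₁ ≫ c.x = specMap β₂ ≫ c.x →
          ∀ (l₁ l₂ : Tf c →ₐ[R] Et), l₁.comp (iTf c) = s.comp j₁ → l₂.comp (iTf c) = s.comp j₂ →
            ∃! ω : Et →ₐ[R] B, ω.comp l₁ = β₁ ∧ ω.comp l₂ = β₂) := by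
  classical
  obtain ⟨E', _, _, _, _, q', hq', hEY, hY⟩ := exists_pairY c
  obtain ⟨Et, _, _, qt, hu, hqt, hEX, hX⟩ := exists_pairX c
  let N := c.T ⊗[R] c.T
  let L := Localization.Away (algebraMap R E' f)
  let iL : E' →ₐ[R] L := IsScalarTower.toAlgHom R E' L
  let RE := R' ⊗[R] Et
  let inR : Et →ₐ[R] RE := Algebra.TensorProduct.includeRight
  have huRE : IsUnit (algebraMap R RE f) := by rw [← inR.commutes]; exact hu.map inR
  have huL : IsUnit (algebraMap R L f) := by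
    rw [IsScalarTower.algebraMap_apply R E' L]
    exact IsLocalization.Away.algebraMap_isUnit _
  have hE'ext : ∀ {B : Type u} [CommRing B] [Algebra R B] (a b : E' →ₐ[R] B),
      a.comp (IsScalarTower.toAlgHom R R' E') = b.comp (IsScalarTower.toAlgHom R R' E') →
      a.comp (q'.comp (i₁ c)) = b.comp (q'.comp (i₁ c)) → a.comp (q'.comp (i₂ c)) = b.comp (q'.comp (i₂ c)) →
        a = b := by
    intro B _ _ a b h0 h1 h2
    have h12 : a.comp q' = b.comp q' := pair_ext c h1 h2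
    refine AlgHom.ext fun z => ?_
    obtain ⟨w, rfl⟩ := hq' z
    induction w using TensorProduct.induction_on with
    | zero => simp
    | add x y hx hy => simp only [map_add, hx, hy]
    | tmul r n =>
      rw [Algebra.TensorProduct.lift_tmul, map_mul, map_mul]
      exact congrArg₂ (· * ·) (AlgHom.congr_fun h0 r) (AlgHom.congr_fun h12 n)
  have hEtext : ∀ {B : Type u} [CommRing B] [Algebra R B] (a b : Et →ₐ[R] B),
      a.comp (qt.comp (i₁ c)) = b.comp (qt.comp (i₁ c)) → a.comp (qt.comp (i₂ c)) = b.comp (qt.comp (i₂ c)) →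
        a = b := by
    intro B _ _ a b h1 h2
    have h12 : a.comp qt = b.comp qt := pair_ext c h1 h2
    refine AlgHom.ext fun z => ?_
    obtain ⟨k, n, hn⟩ := hqt z
    have h := AlgHom.congr_fun h12 n
    simp only [AlgHom.comp_apply, ← hn, map_mul, map_pow, AlgHom.commutes] at h
    have huB : IsUnit (algebraMap R B f) := by rw [← a.commutes]; exact hu.map a
    exact (huB.pow k).mul_left_cancel h
  -- to the tensor product
  obtain ⟨τ₀, hτR, hτ₁, hτ₂⟩ := hY RE Algebra.TensorProduct.includeLeft (inR.comp (qt.comp (i₁ c)))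
    (inR.comp (qt.comp (i₂ c))) ((eqX_iff_eqY c huRE _ _ _).1 (hEX.map c hu inR))
  obtain ⟨toT, htoT⟩ := exists_lift_loc iL (algebraMap R E' f) (away_self _) τ₀ (by rwa [AlgHom.commutes])
  let toT' : L →ₐ[R'] RE :=
    { toT.toRingHom with
      commutes' := fun r => by
        show toT (algebraMap R' L r) = _
        rw [IsScalarTower.algebraMap_apply R' E' L]
        exact (AlgHom.congr_fun htoT _).trans (AlgHom.congr_fun hτR r) }
  -- back
  obtain ⟨σ, hσ₁, hσ₂⟩ := hX L huL (iL.comp (q'.comp (i₁ c))) (iL.comp (q'.comp (i₂ c)))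
    ((eqX_iff_eqY c huL _ _ _).2 (hEY.map c iL))
  let toL : RE →ₐ[R'] L := Algebra.TensorProduct.lift (Algebra.ofId R' L) σ fun _ _ => Commute.all _ _
  have htoL : (toL.restrictScalars R).comp inR = σ := AlgHom.ext fun z => by
    show toL ((1 : R') ⊗ₜ[R] z) = σ z
    rw [Algebra.TensorProduct.lift_tmul, map_one, one_mul]
  have hTL : ∀ z, toT' (toL z) = z := by
    have h1 : toT.comp σ = inR := by
      refine hEtext _ _ ?_ ?_
      · rw [AlgHom.comp_assoc, hσ₁, ← AlgHom.comp_assoc, htoT, hτ₁]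
      · rw [AlgHom.comp_assoc, hσ₂, ← AlgHom.comp_assoc, htoT, hτ₂]
    have h2 : toT'.comp toL = AlgHom.id R' RE :=
      Algebra.TensorProduct.ext (Subsingleton.elim _ _) (AlgHom.ext fun z => by
        show toT (toL ((1 : R') ⊗ₜ[R] z)) = (1 : R') ⊗ₜ[R] z
        exact (congrArg toT (AlgHom.congr_fun htoL z)).trans (AlgHom.congr_fun h1 z))
    exact AlgHom.congr_fun h2
  have hLT : ∀ z, toL (toT' z) = z := by
    have h1 : (toL.restrictScalars R).comp τ₀ = iL := by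
      refine hE'ext _ _ ?_ ?_ ?_
      · rw [AlgHom.comp_assoc, hτR]
        exact AlgHom.ext fun r => (toL.commutes r).trans (IsScalarTower.algebraMap_apply R' E' L r)
      · rw [AlgHom.comp_assoc, hτ₁, ← AlgHom.comp_assoc, htoL, hσ₁]
      · rw [AlgHom.comp_assoc, hτ₂, ← AlgHom.comp_assoc, htoL, hσ₂]
    have h2 : (toL.restrictScalars R).comp toT = AlgHom.id R L := by
      refine IsLocalization.algHom_ext (Submonoid.powers (algebraMap R E' f)) ?_
      show ((toL.restrictScalars R).comp toT).comp iL = iL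
      rw [AlgHom.comp_assoc, htoT, h1]
    exact AlgHom.congr_fun h2
  let φ : L ≃ₐ[R'] RE := AlgEquiv.ofAlgHom toT' toL (AlgHom.ext hTL) (AlgHom.ext hLT)
  have hto : ∀ z, GluePairLib.toTensor φ z = τ₀ z := fun z => AlgHom.congr_fun htoT z
  let qq : N →ₐ[R] GluePairLib.glue φ := AlgHom.codRestrict (q'.prod qt) (GluePairLib.glue φ) fun n => by
    show GluePairLib.toTensor φ (q' n) = (1 : R') ⊗ₜ[R] qt n
    rw [hto]
    exact AlgHom.congr_fun (pair_ext c hτ₁ hτ₂ : τ₀.comp q' = inR.comp qt) n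
  let G := GluePairLib.glue φ
  let s : G →ₐ[R] Et := GluePairLib.glueSnd φ
  let fst : G →ₐ[R] E' := (AlgHom.fst R E' Et).comp G.val
  let e : R' ⊗[R] G →ₐ[R] E' := (GluePairLib.glueLift φ).restrictScalars R
  have hebij : Function.Bijective e :=
    ⟨GluePairLib.glueLift_injective φ hu hRR', GluePairLib.glueLift_surjective φ hu hRR'.1⟩
  have heR : e.comp Algebra.TensorProduct.includeLeft = IsScalarTower.toAlgHom R R' E' :=
    AlgHom.ext fun r => (GluePairLib.glueLift φ).commutes r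
  have heG : e.comp Algebra.TensorProduct.includeRight = fst := AlgHom.ext fun g => GluePairLib.glueLift_one_tmul φ g
  haveI hloc := GluePairLib.glueSnd_localization φ hu
  have hs : letI := s.toRingHom.toAlgebra; IsLocalization.Away (algebraMap R G f) Et := by
    letI := s.toRingHom.toAlgebra
    haveI : IsScalarTower R G Et := IsScalarTower.of_algebraMap_eq fun r => (s.commutes r).symm
    have h : IsLocalizedModule (Submonoid.powers f) (IsScalarTower.toAlgHom R G Et).toLinearMap := hloc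
    rw [isLocalizedModule_iff_isLocalization, Algebra.algebraMapSubmonoid, Submonoid.map_powers] at h
    exact h
  have hsurj : Function.Surjective qq := by
    let Nr : Submodule R G := LinearMap.range qq.toLinearMap
    have htop : Nr = ⊤ := by
      refine GluePairLib.eq_top_of_glueing hRR'.1 Nr (fun z => ?_) fun m => ?_
      · obtain ⟨w, hw⟩ := hq' (e z)
        refine ⟨qq.toLinearMap.rangeRestrict.lTensor R' w, hebij.1 ?_⟩
        rw [← hw, ← LinearMap.lTensor_comp_apply]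
        show e (qq.toLinearMap.lTensor R' w) = _
        clear hw
        induction w using TensorProduct.induction_on with
        | zero => simp only [map_zero]
        | add x y hx hy => rw [map_add, map_add, map_add, hx, hy]
        | tmul r n =>
          rw [LinearMap.lTensor_tmul, Algebra.TensorProduct.lift_tmul]
          show GluePairLib.glueLift φ (r ⊗ₜ[R] qq n) = _
          rw [GluePairLib.glueLift, Algebra.TensorProduct.lift_tmul]
          rfl
      · obtain ⟨k, n, hn⟩ := hqt (s m)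
        have h : (GluePairLib.glueSnd φ).toLinearMap (f ^ k • m) = (GluePairLib.glueSnd φ).toLinearMap (qq n) := by
          rw [map_smul, Algebra.smul_def, map_pow]
          exact hn
        obtain ⟨⟨_, j, rfl⟩, hj⟩ :=
          (IsLocalizedModule.eq_iff_exists (Submonoid.powers f) (GluePairLib.glueSnd φ).toLinearMap).1 h
        refine ⟨j + k, ⟨f ^ j • n, ?_⟩⟩
        rw [map_smul, pow_add, mul_smul]
        exact hj.symm
    intro g
    obtain ⟨n, hn⟩ := (htop ▸ Submodule.mem_top : g ∈ Nr)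
    exact ⟨n, hn⟩
  refine ⟨G, inferInstance, inferInstance, qq.comp (i₁ c), qq.comp (i₂ c), GluePairLib.isGlueable_glue φ hu hRR', ?_,
    ?_, fun B _ _ huB g => ?_, fun B _ _ θ t₁ t₂ h => ?_, fun B _ _ huB t₁ t₂ h => ?_,
    E', inferInstance, inferInstance, e, Et, inferInstance, inferInstance, s, hebij, hs,
    fun B _ _ γ₁ γ₂ h => ?_, fun B _ _ β₁ β₂ h l₁ l₂ hl₁ hl₂ => ?_⟩
  · rw [show Algebra.TensorProduct.lift (qq.comp (i₁ c)) (qq.comp (i₂ c)) (fun _ _ => Commute.all _ _) = qq from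
      pair_ext c (Algebra.TensorProduct.lift_comp_includeLeft _ _ fun _ _ => Commute.all _ _)
        (Algebra.TensorProduct.lift_comp_includeRight _ _ fun _ _ => Commute.all _ _)]
    exact hsurj
  · let eq : R' ⊗[R] G ≃ₐ[R] E' := AlgEquiv.ofBijective e hebij
    have h := hEY.map c eq.symm.toAlgHom
    have e0 : eq.symm.toAlgHom.comp (IsScalarTower.toAlgHom R R' E') = Algebra.TensorProduct.includeLeft :=
      AlgHom.ext fun r => eq.symm_apply_eq.2 (AlgHom.congr_fun heR r).symm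
    have e1 : ∀ j : c.T →ₐ[R] N, eq.symm.toAlgHom.comp (q'.comp j) =
        (Algebra.TensorProduct.includeRight : G →ₐ[R] R' ⊗[R] G).comp (qq.comp j) := fun j =>
      AlgHom.ext fun t => eq.symm_apply_eq.2 (AlgHom.congr_fun heG (qq (j t))).symm
    rw [e0, e1, e1] at h
    exact h
  · obtain ⟨ω, hω⟩ := exists_lift_loc s (algebraMap R G f) hs g (by rwa [AlgHom.commutes])
    rw [← hω]
    exact hEX.map c hu ω
  · obtain ⟨ω, -, h₁, h₂⟩ := hY B θ t₁ t₂ h
    exact ⟨ω.comp fst, h₁, h₂⟩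
  · obtain ⟨ω, h₁, h₂⟩ := hX B huB t₁ t₂ h
    exact ⟨ω.comp s, h₁, h₂⟩
  · have heq : ∀ (j : c.T →ₐ[R] N), e.comp (Algebra.TensorProduct.map (AlgHom.id R R') (qq.comp j)) =
        liftY c (IsScalarTower.toAlgHom R R' E') (q'.comp j) := fun j => by
      rw [← liftY_eta c (e.comp _)]
      congr 1
      · rw [AlgHom.comp_assoc, Algebra.TensorProduct.map_comp_includeLeft, AlgHom.comp_id, heR]
      · rw [AlgHom.comp_assoc, Algebra.TensorProduct.map_comp_includeRight, ← AlgHom.comp_assoc, heG]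
        rfl
    rw [heq, heq]
    have hθ : γ₁.comp Algebra.TensorProduct.includeLeft = γ₂.comp Algebra.TensorProduct.includeLeft := by
      refine specMap_injective ?_
      rw [← specMap_comp, ← specMap_comp, ← c.y_y', reassoc_of% h]
    obtain ⟨ω, hωR, hω₁, hω₂⟩ := hY B (γ₁.comp Algebra.TensorProduct.includeLeft)
      (γ₁.comp Algebra.TensorProduct.includeRight) (γ₂.comp Algebra.TensorProduct.includeRight) (by
        unfold EqY
        rw [liftY_eta, hθ, liftY_eta]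
        exact h)
    refine ⟨ω, ⟨?_, ?_⟩, fun ω' hω' => hE'ext _ _ ?_ ?_ ?_⟩
    · rw [liftY_comp, hωR, hω₁, liftY_eta]
    · rw [liftY_comp, hωR, hω₂, hθ, liftY_eta]
    · rw [hωR, ← hω'.1, AlgHom.comp_assoc, liftY_inl]
    · rw [hω₁, ← hω'.1, AlgHom.comp_assoc, liftY_inr]
    · rw [hω₂, ← hω'.2, AlgHom.comp_assoc, liftY_inr]
  · have hl₁' : l₁.comp (iTf c) = qt.comp (i₁ c) := hl₁
    have hl₂' : l₂.comp (iTf c) = qt.comp (i₂ c) := hl₂
    have huB : IsUnit (algebraMap R B f) := by rw [← β₁.commutes]; exact (isUnit_Tf c).map β₁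
    obtain ⟨ω, hω₁, hω₂⟩ := hX B huB (β₁.comp (iTf c)) (β₂.comp (iTf c)) (fun b₁ b₂ e₁ e₂ => by
      rw [liftX_unique c e₁, liftX_unique c e₂]
      exact h)
    refine ⟨ω, ⟨liftX_unique c ?_, liftX_unique c ?_⟩, fun ω' hω' => hEtext _ _ ?_ ?_⟩
    · rw [AlgHom.comp_assoc, hl₁', hω₁]
    · rw [AlgHom.comp_assoc, hl₂', hω₂]
    · rw [hω₁, ← hl₁', ← AlgHom.comp_assoc, hω'.1]
    · rw [hω₂, ← hl₂', ← AlgHom.comp_assoc, hω'.2]

end Groth.Agent.QAGlueLib

end
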